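import Groth.Agent.CMFlat.Scheme
import Groth.Agent.FibCrit.Tools
import Groth.Agent.FibreFlat.Stalk
import Groth.Agent.Hensel.HenselizationNoeth
import Groth.Agent.GrpField.FlatPoint

/-!
# Fibres of a composition along a flat map
-/

set_option autoImplicit false
set_option linter.style.haveILetI false
universe u

open CategoryTheory AlgebraicGeometry IsLocalRing Limits

namespace Groth.Agent.CMFlat

theorem map_maximalIdeal_le {R S : Type u} [CommRing R] [CommRing S] [IsLocalRing R] [IsLocalRing S] [Algebra R S]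
    [IsLocalHom (algebraMap R S)] : (maximalIdeal R).map (algebraMap R S) ≤ maximalIdeal S :=
  Ideal.map_le_iff_le_comap.mpr (maximalIdeal_comap (algebraMap R S)).ge

/-- Local rings of fibres along `A → B → C` with `B → C` flat. -/
theorem fibre_comp {A B C : Type u} [CommRing A] [CommRing B] [CommRing C] [IsLocalRing A] [IsLocalRing B]
    [IsLocalRing C] [Algebra A B] [Algebra B C] [Algebra A C] [IsScalarTower A B C]
    [IsLocalHom (algebraMap A B)] [IsLocalHom (algebraMap B C)] [Module.Flat B C]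
    [IsNoetherianRing (C ⧸ (maximalIdeal A).map (algebraMap A C))] :
    IsNoetherianRing (B ⧸ (maximalIdeal A).map (algebraMap A B)) ∧
    (LocCoh.IsCohenMacaulayLocalRing (C ⧸ (maximalIdeal A).map (algebraMap A C)) ↔
      LocCoh.IsCohenMacaulayLocalRing (B ⧸ (maximalIdeal A).map (algebraMap A B)) ∧
        LocCoh.IsCohenMacaulayLocalRing (C ⧸ (maximalIdeal B).map (algebraMap B C))) ∧
    ringKrullDim (B ⧸ (maximalIdeal A).map (algebraMap A B)) ≤
      ringKrullDim (C ⧸ (maximalIdeal A).map (algebraMap A C)) := by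
  let I := (maximalIdeal A).map (algebraMap A B)
  let J := (maximalIdeal A).map (algebraMap A C)
  have hIJ : J = I.map (algebraMap B C) := by
    show J = ((maximalIdeal A).map (algebraMap A B)).map (algebraMap B C)
    rw [Ideal.map_map, ← IsScalarTower.algebraMap_eq]
  letI : Algebra (B ⧸ I) (C ⧸ J) :=
    (Ideal.quotientMap J (algebraMap B C) (Ideal.map_le_iff_le_comap.1 hIJ.ge)).toAlgebra
  haveI : IsScalarTower B (B ⧸ I) (C ⧸ J) := IsScalarTower.of_algebraMap_eq fun _ => rfl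
  have hI : I ≤ maximalIdeal B := map_maximalIdeal_le
  haveI : Nontrivial (B ⧸ I) :=
    Ideal.Quotient.nontrivial_iff.mpr fun h => (maximalIdeal.isMaximal B).ne_top (top_le_iff.mp (h.ge.trans hI))
  haveI : IsLocalRing (B ⧸ I) := IsLocalRing.of_surjective' _ Ideal.Quotient.mk_surjective
  have hJ : J ≤ maximalIdeal C := hIJ.le.trans ((Ideal.map_mono hI).trans map_maximalIdeal_le)
  haveI : Nontrivial (C ⧸ J) :=
    Ideal.Quotient.nontrivial_iff.mpr fun h => (maximalIdeal.isMaximal C).ne_top (top_le_iff.mp (h.ge.trans hJ))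
  haveI : IsLocalRing (C ⧸ J) := IsLocalRing.of_surjective' _ Ideal.Quotient.mk_surjective
  have hmB : maximalIdeal (B ⧸ I) = (maximalIdeal B).map (Ideal.Quotient.mk I) :=
    (IsLocalRing.eq_maximalIdeal ((Ideal.map_eq_top_or_isMaximal_of_surjective _ Ideal.Quotient.mk_surjective
      (maximalIdeal.isMaximal B)).resolve_left fun h => by
        have := congrArg (Ideal.comap (Ideal.Quotient.mk I)) h
        rw [Ideal.comap_map_mk hI, Ideal.comap_top] at this
        exact (maximalIdeal.isMaximal B).ne_top this)).symm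
  have hker : (maximalIdeal (B ⧸ I)).map (algebraMap (B ⧸ I) (C ⧸ J)) =
      ((maximalIdeal B).map (algebraMap B C)).map (Ideal.Quotient.mk J) := by
    rw [hmB, Ideal.map_map, Ideal.map_map]
    rfl
  haveI : IsLocalHom (algebraMap (B ⧸ I) (C ⧸ J)) := by
    refine ((IsLocalRing.local_hom_TFAE _).out 0 2).mpr ?_
    rw [hker]
    refine (Ideal.map_mono map_maximalIdeal_le).trans ?_
    refine IsLocalRing.le_maximalIdeal fun h => ?_
    have := congrArg (Ideal.comap (Ideal.Quotient.mk J)) h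
    rw [Ideal.comap_map_mk hJ, Ideal.comap_top] at this
    exact (maximalIdeal.isMaximal C).ne_top this
  haveI : Module.Flat (B ⧸ I) (C ⧸ J) := by
    haveI := FibCrit.isPushout_quot (A := B) (B := C) I (J := J) hIJ
    exact Module.Flat.of_linearEquiv (Algebra.IsPushout.equiv B (B ⧸ I) C (C ⧸ J)).symm.toLinearEquiv
  haveI : Module.FaithfullyFlat (B ⧸ I) (C ⧸ J) := Module.FaithfullyFlat.of_flat_of_isLocalHom
  haveI : IsNoetherianRing (B ⧸ I) := Hensel.isNoetherianRing_of_faithfullyFlat (S := C ⧸ J)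
  refine ⟨inferInstance, ?_, ?_⟩
  · let e : ((C ⧸ J) ⧸ (maximalIdeal (B ⧸ I)).map (algebraMap (B ⧸ I) (C ⧸ J))) ≃+*
        C ⧸ (maximalIdeal B).map (algebraMap B C) :=
      (Ideal.quotEquivOfEq hker).trans (DoubleQuot.quotQuotEquivQuotOfLE (hIJ.le.trans (Ideal.map_mono hI)))
    exact (isCohenMacaulayLocalRing_iff (R := B ⧸ I)).trans (and_congr_right fun _ =>
      ⟨CMChart.isCohenMacaulayLocalRing_of_ringEquiv e, CMChart.isCohenMacaulayLocalRing_of_ringEquiv e.symm⟩)
  · obtain ⟨c, e, hc, -, hce⟩ := dims (R := B ⧸ I) (S := C ⧸ J)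
    rw [hc, hce]
    exact_mod_cast Nat.le_add_right c e

variable {X Y Z : Scheme.{u}}

/-- Fibres of a composition: Cohen–Macaulayness and dimension. -/
theorem fiber_stalk_comp (f : X ⟶ Y) (g : Y ⟶ Z) (x : X) (hfl : (f.stalkMap x).hom.Flat)
    [IsNoetherianRing (((f ≫ g).fiber ((f ≫ g) x)).presheaf.stalk ((f ≫ g).asFiber x))] :
    (LocCoh.IsCohenMacaulayLocalRing (((f ≫ g).fiber ((f ≫ g) x)).presheaf.stalk ((f ≫ g).asFiber x)) ↔
      LocCoh.IsCohenMacaulayLocalRing ((g.fiber (g (f x))).presheaf.stalk (g.asFiber (f x))) ∧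
        LocCoh.IsCohenMacaulayLocalRing ((f.fiber (f x)).presheaf.stalk (f.asFiber x))) ∧
    ringKrullDim ((g.fiber (g (f x))).presheaf.stalk (g.asFiber (f x))) ≤
      ringKrullDim (((f ≫ g).fiber ((f ≫ g) x)).presheaf.stalk ((f ≫ g).asFiber x)) := by
  letI := (f.stalkMap x).hom.toAlgebra
  letI : Algebra (Z.presheaf.stalk (g (f x))) (Y.presheaf.stalk (f x)) := (g.stalkMap (f x)).hom.toAlgebra
  letI : Algebra (Z.presheaf.stalk (g (f x))) (X.presheaf.stalk x) :=
    ((f.stalkMap x).hom.comp (g.stalkMap (f x)).hom).toAlgebra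
  haveI : IsScalarTower (Z.presheaf.stalk (g (f x))) (Y.presheaf.stalk (f x)) (X.presheaf.stalk x) :=
    IsScalarTower.of_algebraMap_eq fun _ => rfl
  haveI : Module.Flat (Y.presheaf.stalk (f x)) (X.presheaf.stalk x) := hfl
  haveI : IsLocalHom (algebraMap (Y.presheaf.stalk (f x)) (X.presheaf.stalk x)) :=
    inferInstanceAs (IsLocalHom (f.stalkMap x).hom)
  haveI : IsLocalHom (algebraMap (Z.presheaf.stalk (g (f x))) (Y.presheaf.stalk (f x))) :=
    inferInstanceAs (IsLocalHom (g.stalkMap (f x)).hom)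
  obtain ⟨e0⟩ := nonempty_fiberStalk_equiv (f ≫ g) x
  let e : (X.presheaf.stalk x ⧸ (maximalIdeal (Z.presheaf.stalk (g (f x)))).map
      (algebraMap (Z.presheaf.stalk (g (f x))) (X.presheaf.stalk x))) ≃+*
      (((f ≫ g).fiber ((f ≫ g) x)).presheaf.stalk ((f ≫ g).asFiber x)) :=
    (Ideal.quotEquivOfEq (by
      have h : ((f ≫ g).stalkMap x).hom = (f.stalkMap x).hom.comp (g.stalkMap (f x)).hom :=
        congrArg CommRingCat.Hom.hom (Scheme.Hom.stalkMap_comp f g x)
      rw [h]; rfl)).trans e0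
  obtain ⟨e1⟩ := nonempty_fiberStalk_equiv g (f x)
  obtain ⟨e2⟩ := nonempty_fiberStalk_equiv f x
  haveI := isNoetherianRing_of_ringEquiv _ e.symm
  obtain ⟨-, h1, h2⟩ := fibre_comp (A := Z.presheaf.stalk (g (f x))) (B := Y.presheaf.stalk (f x))
    (C := X.presheaf.stalk x)
  refine ⟨⟨fun h => ?_, fun h => ?_⟩, ?_⟩
  · obtain ⟨ha, hb⟩ := h1.mp (CMChart.isCohenMacaulayLocalRing_of_ringEquiv e.symm h)
    exact ⟨CMChart.isCohenMacaulayLocalRing_of_ringEquiv e1 ha, CMChart.isCohenMacaulayLocalRing_of_ringEquiv e2 hb⟩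
  · exact CMChart.isCohenMacaulayLocalRing_of_ringEquiv e (h1.mpr
      ⟨CMChart.isCohenMacaulayLocalRing_of_ringEquiv e1.symm h.1,
        CMChart.isCohenMacaulayLocalRing_of_ringEquiv e2.symm h.2⟩)
  · rw [← ringKrullDim_eq_of_ringEquiv e1, ← ringKrullDim_eq_of_ringEquiv e]
    exact h2

theorem isNoetherianRing_fiber_stalk (f : X ⟶ Y) (x : X) (h : IsLocallyNoetherian (f.fiber (f x))) :
    IsNoetherianRing ((f.fiber (f x)).presheaf.stalk (f.asFiber x)) := inferInstance

theorem isNoetherianRing_fiber_stalk_comp (f : X ⟶ Y) (g : Y ⟶ Z) (x : X)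
    (h : IsLocallyNoetherian ((f ≫ g).fiber (g (f x)))) :
    IsNoetherianRing (((f ≫ g).fiber ((f ≫ g) x)).presheaf.stalk ((f ≫ g).asFiber x)) := by
  have key : ∀ z, z = g (f x) → IsLocallyNoetherian ((f ≫ g).fiber z) := fun _ e => e ▸ h
  haveI := key _ (Scheme.Hom.comp_apply f g x)
  infer_instance

/-- Composites of Cohen–Macaulay morphisms. -/
theorem isCMAt_comp {f : X ⟶ Y} {g : Y ⟶ Z} {x : X}
    (hN : IsLocallyNoetherian ((f ≫ g).fiber (g (f x))))
    (hf : MoreMor.IsCMAt f x) (hg : MoreMor.IsCMAt g (f x)) : MoreMor.IsCMAt (f ≫ g) x := by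
  haveI := isNoetherianRing_fiber_stalk_comp f g x hN
  exact ⟨FibreFlat.flatAt_comp hf.1 hg.1, (fiber_stalk_comp f g x hf.1).1.mpr ⟨hg.2, hf.2⟩⟩

/-- Cohen–Macaulayness of a composite passes to the factors along flat maps. -/
theorem isCMAt_of_comp {f : X ⟶ Y} {g : Y ⟶ Z} {x : X} (h : MoreMor.IsCMAt (f ≫ g) x)
    (hfl : (f.stalkMap x).hom.Flat) : MoreMor.IsCMAt f x ∧ MoreMor.IsCMAt g (f x) := by
  haveI := h.2
  obtain ⟨hg, hf⟩ := (fiber_stalk_comp f g x hfl).1.mp h.2
  exact ⟨⟨hfl, hf⟩, ⟨FibreFlat.flatAt_of_comp hfl h.1, hg⟩⟩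

/-- Flatness at a point is preserved by base change. -/
theorem flatAt_baseChange {X' Y' : Scheme.{u}} {f : X ⟶ Y} {f' : X' ⟶ Y'} {gX : X' ⟶ X} {gY : Y' ⟶ Y}
    (sq : IsPullback gX f' f gY) {x' : X'} (h : (f.stalkMap (gX x')).hom.Flat) :
    (f'.stalkMap x').hom.Flat := by
  let s := X.fromSpecStalk (gX x')
  haveI : Flat (Spec.map (f.stalkMap (gX x'))) := Flat.SpecMap_iff.2 h
  haveI : Flat (Y.fromSpecStalk (f (gX x'))) := GrpField.flat_fromSpecStalk _
  haveI : Flat s := GrpField.flat_fromSpecStalk _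
  haveI : Flat (s ≫ f) := by rw [← Scheme.SpecMap_stalkMap_fromSpecStalk]; infer_instance
  have hflat : Flat (pullback.snd s gX ≫ f') :=
    MorphismProperty.of_isPullback (P := @Flat) ((IsPullback.of_hasPullback s gX).paste_vert sq.flip.flip)
      inferInstance
  haveI : Flat (pullback.snd s gX) := MorphismProperty.pullback_snd (P := @Flat) _ _ inferInstance
  obtain ⟨p, -, hp⟩ := Scheme.Pullback.exists_preimage_pullback (f := s) (g := gX)
    (IsLocalRing.closedPoint _) x' Scheme.fromSpecStalk_closedPoint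
  rw [← hp]
  exact FibreFlat.flatAt_of_comp (FibreFlat.flatAt_of_flat _ p) (FibreFlat.flatAt_of_flat _ p)

end Groth.Agent.CMFlat
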