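import Groth.Agent.CMFlat.Local
import Groth.Agent.CMChart.Locus
import Groth.Agent.FibCrit.Scheme

/-!
# Cohen–Macaulayness along flat morphisms of schemes
-/

set_option autoImplicit false
set_option linter.style.haveILetI false
universe u

open IsLocalRing CategoryTheory AlgebraicGeometry RingTheory.Sequence

namespace Groth.Agent.CMFlat

/-- The depth is at most the dimension. -/
theorem depth_le_of_dim {T : Type u} [CommRing T] [IsLocalRing T] [IsNoetherianRing T] {d : ℕ}
    (hd : ringKrullDim T = (d : WithBot ℕ∞)) : LocCoh.depth T T ≤ (d : ℕ∞) := by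
  refine ENat.forall_natCast_le_iff_le.mp fun k hk => ?_
  obtain ⟨p, hp⟩ := associatedPrimes.nonempty T T
  have h := (CMSop.le_ringKrullDim_quotient_of_hasRegSeq k inferInstance
    (CMSop.hasRegSeq_of_depth hk) p hp).trans (ringKrullDim_le_of_surjective _ Ideal.Quotient.mk_surjective)
  rw [hd] at h
  exact_mod_cast h

section Ring

variable {R S : Type u} [CommRing R] [CommRing S] [IsLocalRing R] [IsLocalRing S] [IsNoetherianRing R]
  [IsNoetherianRing S] [Algebra R S] [IsLocalHom (algebraMap R S)] [Module.Flat R S]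

/-- The depth is at least that of a Cohen–Macaulay closed fibre. -/
theorem le_depth_of_fibre [LocCoh.IsCohenMacaulayLocalRing (S ⧸ (maximalIdeal R).map (algebraMap R S))] {d : ℕ}
    (hd : (d : WithBot ℕ∞) ≤ ringKrullDim (S ⧸ (maximalIdeal R).map (algebraMap R S))) :
    (d : ℕ∞) ≤ LocCoh.depth S S := by
  have hd' : (d : ℕ∞) ≤ LocCoh.depth (S ⧸ (maximalIdeal R).map (algebraMap R S))
      (S ⧸ (maximalIdeal R).map (algebraMap R S)) := by
    rw [← Module.supportDim_self_eq_ringKrullDim,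
      LocCoh.IsCohenMacaulayLocalRing.supportDim_eq_depth, ← WithBot.coe_natCast, WithBot.coe_le_coe] at hd
    exact hd
  obtain ⟨rF, hlF, hwF, hmF⟩ := SerreReg.exists_list_of_hasRegSeq d (CMSop.hasRegSeq_of_depth hd')
  obtain ⟨y, rfl⟩ : ∃ y : List S, y.map (Ideal.Quotient.mk _) = rF :=
    ⟨rF.map (Function.surjInv Ideal.Quotient.mk_surjective), by
      rw [List.map_map]; exact List.map_id'' (Function.surjInv_eq _) rF⟩
  have hy : IsWeaklyRegular (S ⧸ ((maximalIdeal R).map (algebraMap R S) • (⊤ : Submodule S S))) y := by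
    refine ((Submodule.quotEquivOfEq _ _ (show ((maximalIdeal R).map (algebraMap R S) • ⊤ : Submodule S S) =
      (maximalIdeal R).map (algebraMap R S) by rw [smul_eq_mul, Ideal.mul_top])).isWeaklyRegular_congr y).2 ?_
    exact (isWeaklyRegular_map_algebraMap_iff (S := S ⧸ (maximalIdeal R).map (algebraMap R S)) _ y).1
      (by rw [Ideal.Quotient.algebraMap_eq]; exact hwF)
  obtain ⟨hyw, -⟩ := InjFibre.regSeq_noeth (A := R) S y hy
  rw [LocCoh.depth, LocCoh.idealDepth, if_neg (by
    rw [smul_eq_mul, Ideal.mul_top]; exact (maximalIdeal.isMaximal S).ne_top)]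
  refine le_iSup₂_of_le y ⟨hyw, fun r hr => ?_⟩ (by rw [← hlF, List.length_map])
  have := hmF _ (List.mem_map_of_mem (f := Ideal.Quotient.mk _) hr)
  rw [IsLocalRing.mem_maximalIdeal, mem_nonunits_iff] at this ⊢
  exact fun hu => this (hu.map _)

/-- With closed fibre of dimension zero. -/
theorem isCohenMacaulayLocalRing_iff_of_dim_zero
    (h : ringKrullDim (S ⧸ (maximalIdeal R).map (algebraMap R S)) = 0) :
    (LocCoh.IsCohenMacaulayLocalRing S ↔ LocCoh.IsCohenMacaulayLocalRing R) ∧ ringKrullDim S = ringKrullDim R := by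
  haveI : Nontrivial (S ⧸ (maximalIdeal R).map (algebraMap R S)) := Ideal.Quotient.nontrivial_iff.mpr
    fun h => (maximalIdeal.isMaximal S).ne_top (top_le_iff.mp (h.ge.trans map_le))
  haveI : IsLocalRing (S ⧸ (maximalIdeal R).map (algebraMap R S)) :=
    IsLocalRing.of_surjective' _ Ideal.Quotient.mk_surjective
  refine ⟨(isCohenMacaulayLocalRing_iff (R := R)).trans
    (and_iff_left (CMChart.isCohenMacaulayLocalRing_of_dim_zero h)), ?_⟩
  obtain ⟨c, e, hc, he, hce⟩ := dims (R := R) (S := S)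
  obtain rfl : e = 0 := by exact_mod_cast he.symm.trans h
  rw [hce, hc, add_zero]

end Ring

variable {X Y : Scheme.{u}}

/-- The local ring of the fibre as a quotient. -/
theorem nonempty_fiberStalk_equiv (f : X ⟶ Y) (x : X) :
    Nonempty ((X.presheaf.stalk x ⧸ (maximalIdeal (Y.presheaf.stalk (f x))).map (f.stalkMap x).hom) ≃+*
      (f.fiber (f x)).presheaf.stalk (f.asFiber x)) := by
  have key : ∀ (x' : X), f.fiberι (f x) (f.asFiber x) = x' →
      Nonempty ((X.presheaf.stalk x' ⧸ (maximalIdeal (Y.presheaf.stalk (f x'))).map (f.stalkMap x').hom) ≃+*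
        (f.fiber (f x)).presheaf.stalk (f.asFiber x)) := by
    rintro x' rfl
    obtain ⟨hs, hk⟩ := FibCrit.fiberι_stalkMap f (f x) (f.asFiber x)
    exact ⟨(Ideal.quotEquivOfEq hk.symm).trans (RingHom.quotientKerEquivOfSurjective hs)⟩
  exact key x (f.fiberι_asFiber x)

theorem isCohenMacaulay_stalk_iff (f : X ⟶ Y) [IsLocallyNoetherian X] [IsLocallyNoetherian Y] (x : X)
    (hflat : (f.stalkMap x).hom.Flat) :
    LocCoh.IsCohenMacaulayLocalRing (X.presheaf.stalk x) ↔
      LocCoh.IsCohenMacaulayLocalRing (Y.presheaf.stalk (f x)) ∧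
        LocCoh.IsCohenMacaulayLocalRing ((f.fiber (f x)).presheaf.stalk (f.asFiber x)) := by
  letI := (f.stalkMap x).hom.toAlgebra
  haveI : Module.Flat (Y.presheaf.stalk (f x)) (X.presheaf.stalk x) := hflat
  haveI : IsLocalHom (algebraMap (Y.presheaf.stalk (f x)) (X.presheaf.stalk x)) :=
    inferInstanceAs (IsLocalHom (f.stalkMap x).hom)
  obtain ⟨e⟩ := nonempty_fiberStalk_equiv f x
  exact (isCohenMacaulayLocalRing_iff (R := Y.presheaf.stalk (f x))).trans (and_congr_right fun _ =>
    ⟨CMChart.isCohenMacaulayLocalRing_of_ringEquiv e, CMChart.isCohenMacaulayLocalRing_of_ringEquiv e.symm⟩)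

theorem le_depth_stalk (f : X ⟶ Y) [IsLocallyNoetherian X] [IsLocallyNoetherian Y] (x : X)
    (hflat : (f.stalkMap x).hom.Flat)
    (hCM : LocCoh.IsCohenMacaulayLocalRing ((f.fiber (f x)).presheaf.stalk (f.asFiber x))) {d : ℕ}
    (hd : (d : WithBot ℕ∞) ≤ ringKrullDim ((f.fiber (f x)).presheaf.stalk (f.asFiber x))) :
    (d : ℕ∞) ≤ LocCoh.depth (X.presheaf.stalk x) (X.presheaf.stalk x) := by
  letI := (f.stalkMap x).hom.toAlgebra
  haveI : Module.Flat (Y.presheaf.stalk (f x)) (X.presheaf.stalk x) := hflat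
  haveI : IsLocalHom (algebraMap (Y.presheaf.stalk (f x)) (X.presheaf.stalk x)) :=
    inferInstanceAs (IsLocalHom (f.stalkMap x).hom)
  obtain ⟨e⟩ := nonempty_fiberStalk_equiv f x
  haveI : LocCoh.IsCohenMacaulayLocalRing (X.presheaf.stalk x ⧸
      (maximalIdeal (Y.presheaf.stalk (f x))).map (algebraMap (Y.presheaf.stalk (f x)) (X.presheaf.stalk x))) :=
    CMChart.isCohenMacaulayLocalRing_of_ringEquiv e.symm hCM
  exact le_depth_of_fibre (R := Y.presheaf.stalk (f x)) (hd.trans_eq (ringKrullDim_eq_of_ringEquiv e).symm)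

end Groth.Agent.CMFlat
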