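import Groth.Agent.CMFlat.Scheme

/-!
# Localizations of Cohen–Macaulay local rings
-/

set_option autoImplicit false
set_option linter.style.haveILetI false
universe u

open IsLocalRing RingTheory.Sequence

namespace Groth.Agent.CMFlat

/-- Regular sequences bound the depth from below. -/
theorem le_depth_of_isWeaklyRegular {T : Type u} [CommRing T] [IsLocalRing T] {rs : List T}
    (h : IsWeaklyRegular T rs) (hm : ∀ r ∈ rs, r ∈ maximalIdeal T) : (rs.length : ℕ∞) ≤ LocCoh.depth T T := by
  rw [LocCoh.depth, LocCoh.idealDepth, if_neg (by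
    rw [smul_eq_mul, Ideal.mul_top]; exact (maximalIdeal.isMaximal T).ne_top)]
  exact le_iSup₂_of_le rs ⟨h, hm⟩ le_rfl

theorem isCohenMacaulayLocalRing_of_dim_le_depth {T : Type u} [CommRing T] [IsLocalRing T] [IsNoetherianRing T]
    {d : ℕ} (hd : ringKrullDim T = (d : WithBot ℕ∞)) (h : (d : ℕ∞) ≤ LocCoh.depth T T) :
    LocCoh.IsCohenMacaulayLocalRing T := by
  refine { supportDim_eq_depth := ?_ }
  rw [Module.supportDim_self_eq_ringKrullDim, hd, ← WithBot.coe_natCast, WithBot.coe_inj]
  exact le_antisymm h (depth_le_of_dim hd)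

theorem hasRegSeq_of_cm {R : Type u} [CommRing R] [LocCoh.IsCohenMacaulayLocalRing R] {n : ℕ}
    (hn : ringKrullDim R = (n : WithBot ℕ∞)) : CMSop.HasRegSeq (R := R) n R := by
  refine CMSop.hasRegSeq_of_depth ?_
  have h := LocCoh.IsCohenMacaulayLocalRing.supportDim_eq_depth (R := R)
  rw [Module.supportDim_self_eq_ringKrullDim, hn, ← WithBot.coe_natCast, WithBot.coe_inj] at h
  exact h.le

/-- A prime whose quotient has full dimension is minimal. -/
theorem mem_minimalPrimes_of_dim_le {R : Type u} [CommRing R] {n : ℕ} (hn : ringKrullDim R ≤ (n : WithBot ℕ∞))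
    (q : Ideal R) [q.IsPrime] (h1 : (n : WithBot ℕ∞) ≤ ringKrullDim (R ⧸ q)) : q ∈ minimalPrimes R := by
  obtain ⟨p, hp, hpq⟩ := Ideal.exists_minimalPrimes_le (bot_le : (⊥ : Ideal R) ≤ q)
  haveI := hp.1.1
  rcases eq_or_lt_of_le hpq with e | hlt
  · exact e ▸ hp
  · exfalso
    obtain ⟨r, hrq, hrp⟩ := SetLike.exists_of_lt hlt
    have hr : Ideal.Quotient.mk p r ∈ nonZeroDivisors (R ⧸ p) :=
      mem_nonZeroDivisors_of_ne_zero fun e => hrp (Ideal.Quotient.eq_zero_iff_mem.mp e)
    have h2 := ringKrullDim_quotient_succ_le_of_nonZeroDivisor hr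
    let φ : (R ⧸ p) ⧸ Ideal.span {Ideal.Quotient.mk p r} →+* R ⧸ q :=
      Ideal.Quotient.lift _ (Ideal.Quotient.factor hpq) fun a ha => by
        obtain ⟨c, rfl⟩ := Ideal.mem_span_singleton'.mp ha
        rw [map_mul, Ideal.Quotient.factor_mk, Ideal.Quotient.eq_zero_iff_mem.mpr hrq, mul_zero]
    have hφ : Function.Surjective φ :=
      Ideal.Quotient.lift_surjective_of_surjective _ _ (Ideal.Quotient.factor_surjective hpq)
    have h3 := h1.trans (ringKrullDim_le_of_surjective φ hφ)
    have h4 := h2.trans (ringKrullDim_le_of_surjective _ (Ideal.Quotient.mk_surjective (I := p)))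
    replace h4 := h4.trans hn
    haveI : Nontrivial ((R ⧸ p) ⧸ Ideal.span {Ideal.Quotient.mk p r}) := φ.domain_nontrivial
    obtain ⟨m, hm⟩ : ∃ m, m = ringKrullDim ((R ⧸ p) ⧸ Ideal.span {Ideal.Quotient.mk p r}) := ⟨_, rfl⟩
    rw [← hm] at h3 h4
    induction m using WithBot.recBotCoe with
    | bot => exact absurd (le_bot_iff.mp h3) (WithBot.natCast_ne_bot n)
    | coe m =>
      rw [← WithBot.coe_natCast, ← WithBot.coe_one, ← WithBot.coe_add, WithBot.coe_le_coe] at h4
      rw [← WithBot.coe_natCast, WithBot.coe_le_coe] at h3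
      have : m + 1 ≤ m + 0 := by rw [add_zero]; exact h4.trans h3
      exact absurd ((ENat.add_le_add_iff_left (ne_top_of_le_ne_top (ENat.natCast_ne_top n)
        (le_self_add.trans h4))).mp this) (by simp)

/-- The associated primes of a Cohen–Macaulay local ring are minimal. -/
theorem associatedPrimes_subset_minimalPrimes (R : Type u) [CommRing R] [LocCoh.IsCohenMacaulayLocalRing R] :
    associatedPrimes R R ⊆ minimalPrimes R := by
  intro q hq
  haveI := IsAssociatedPrime.isPrime hq
  obtain ⟨n, hn⟩ := SerreReg.exists_dim_nat R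
  exact mem_minimalPrimes_of_dim_le hn.le q
    (CMSop.le_ringKrullDim_quotient_of_hasRegSeq n inferInstance (hasRegSeq_of_cm hn) q hq)

/-- A Cohen–Macaulay local ring modulo a regular element. -/
theorem isCohenMacaulayLocalRing_quotient (R : Type u) [CommRing R] [LocCoh.IsCohenMacaulayLocalRing R] {x : R}
    (hx : x ∈ maximalIdeal R) (hreg : IsSMulRegular R x) {n : ℕ} (hn : ringKrullDim R = ((n + 1 : ℕ) : WithBot ℕ∞)) :
    LocCoh.IsCohenMacaulayLocalRing (R ⧸ Ideal.span {x}) ∧ ringKrullDim (R ⧸ Ideal.span {x}) = (n : WithBot ℕ∞) := by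
  have hne : Ideal.span {x} ≠ ⊤ := fun h => (maximalIdeal.isMaximal R).ne_top
    (top_le_iff.mp (h.ge.trans ((Ideal.span_singleton_le_iff_mem _).mpr hx)))
  haveI : Nontrivial (R ⧸ Ideal.span {x}) := Ideal.Quotient.nontrivial_iff.mpr hne
  haveI : IsLocalRing (R ⧸ Ideal.span {x}) := IsLocalRing.of_surjective' _ Ideal.Quotient.mk_surjective
  have hdim : ringKrullDim (R ⧸ Ideal.span {x}) = (n : WithBot ℕ∞) := by
    obtain ⟨m, hm⟩ := SerreReg.exists_dim_nat (R ⧸ Ideal.span {x})
    have h := ringKrullDim_quotient_span_singleton_succ_eq_ringKrullDim_of_mem_jacobson hreg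
      (by rwa [IsLocalRing.ringJacobson_eq_maximalIdeal])
    rw [hm, hn] at h
    have : m + 1 = n + 1 := by exact_mod_cast h
    rw [hm, show m = n by omega]
  refine ⟨isCohenMacaulayLocalRing_of_dim_le_depth hdim ?_, hdim⟩
  have h := CMSop.hasRegSeq_quot (R := R) n inferInstance (hasRegSeq_of_cm hn) x hx hreg
  obtain ⟨rs, hlen, hw, hm⟩ := SerreReg.exists_list_of_hasRegSeq n h
  have e : QuotSMulTop x R ≃ₗ[R] R ⧸ Ideal.span {x} := Submodule.quotEquivOfEq _ _ (by
    rw [← Submodule.ideal_span_singleton_smul, smul_eq_mul, Ideal.mul_top])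
  have h1 : IsWeaklyRegular (R ⧸ Ideal.span {x}) (rs.map (algebraMap R (R ⧸ Ideal.span {x}))) :=
    (isWeaklyRegular_map_algebraMap_iff (S := R ⧸ Ideal.span {x}) (R ⧸ Ideal.span {x}) rs).2
      ((e.isWeaklyRegular_congr rs).1 hw)
  refine le_trans ?_ (le_depth_of_isWeaklyRegular h1 fun r hr => ?_)
  · rw [List.length_map, hlen]
  · obtain ⟨s, hs, rfl⟩ := List.mem_map.mp hr
    exact ((IsLocalHom.of_surjective _ Ideal.Quotient.mk_surjective : IsLocalHom (Ideal.Quotient.mk (Ideal.span {x}))).map_nonunit s).mt (hm s hs)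

/-- Every prime of a Cohen–Macaulay local ring contains a regular sequence as long as its height. -/
theorem exists_regular_of_prime : ∀ (n : ℕ) (R : Type u) [CommRing R] [LocCoh.IsCohenMacaulayLocalRing R],
    ringKrullDim R = (n : WithBot ℕ∞) → ∀ (p : Ideal R) [p.IsPrime],
      ∃ rs : List R, IsWeaklyRegular R rs ∧ (∀ r ∈ rs, r ∈ p) ∧ p.height ≤ (rs.length : ℕ∞) := by
  intro n
  induction n with
  | zero =>
    intro R _ _ hn p _
    refine ⟨[], IsWeaklyRegular.nil R R, by simp, ?_⟩
    have h := Ideal.height_le_ringKrullDim_of_isPrime (I := p)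
    rw [hn] at h
    simpa using h
  | succ n ih =>
    intro R _ _ hn p _
    by_cases hp0 : p.height = 0
    · exact ⟨[], IsWeaklyRegular.nil R R, by simp, by simp [hp0]⟩
    have hnot : ∀ q ∈ associatedPrimes R R, ¬ p ≤ q := fun q hq hpq => by
      haveI := IsAssociatedPrime.isPrime hq
      exact hp0 (le_bot_iff.mp ((Ideal.height_mono hpq).trans
        (Ideal.height_eq_zero_iff.mpr (associatedPrimes_subset_minimalPrimes R hq)).le))
    obtain ⟨x, hxp, hx⟩ : ∃ x ∈ p, ∀ q ∈ associatedPrimes R R, x ∉ q := by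
      by_contra hcon
      push Not at hcon
      have hfin := associatedPrimes.finite R R
      obtain ⟨q, hq, hle⟩ := (Ideal.subset_union_prime (s := hfin.toFinset) (f := id) ⊥ ⊥
        (fun i hi _ _ => IsAssociatedPrime.isPrime (hfin.mem_toFinset.mp hi))).mp
        (show (p : Set R) ⊆ _ from fun z hz => by
          obtain ⟨q, hq, hzq⟩ := hcon z hz
          exact Set.mem_iUnion₂.mpr ⟨q, hfin.mem_toFinset.mpr hq, hzq⟩)
      exact hnot q (hfin.mem_toFinset.mp hq) hle
    have hreg : IsSMulRegular R x := CMSop.isSMulRegular_of_forall fun q hq => hx q hq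
    have hxm : x ∈ maximalIdeal R := le_maximalIdeal (Ideal.IsPrime.ne_top inferInstance) hxp
    obtain ⟨hcm, hdim⟩ := isCohenMacaulayLocalRing_quotient R hxm hreg hn
    haveI : (p.map (Ideal.Quotient.mk (Ideal.span {x}))).IsPrime :=
      Ideal.map_isPrime_of_surjective Ideal.Quotient.mk_surjective
        (by rwa [Ideal.mk_ker, Ideal.span_singleton_le_iff_mem])
    obtain ⟨rs', hw', hm', hlen'⟩ := @ih (R ⧸ Ideal.span {x}) _ hcm hdim (p.map (Ideal.Quotient.mk _)) _
    obtain ⟨rs, rfl⟩ : ∃ rs : List R, rs.map (Ideal.Quotient.mk (Ideal.span {x})) = rs' :=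
      ⟨rs'.map (Function.surjInv Ideal.Quotient.mk_surjective), by
        rw [List.map_map]; exact List.map_id'' (Function.surjInv_eq _) rs'⟩
    refine ⟨x :: rs, ?_, fun r hr => ?_, ?_⟩
    · have e : QuotSMulTop x R ≃ₗ[R] R ⧸ Ideal.span {x} := Submodule.quotEquivOfEq _ _ (by
        rw [← Submodule.ideal_span_singleton_smul, smul_eq_mul, Ideal.mul_top])
      exact IsWeaklyRegular.cons hreg ((e.isWeaklyRegular_congr rs).2
        ((isWeaklyRegular_map_algebraMap_iff (S := R ⧸ Ideal.span {x}) (R ⧸ Ideal.span {x}) rs).1 hw'))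
    · rcases List.mem_cons.mp hr with rfl | hr
      · exact hxp
      · have h := hm' _ (List.mem_map_of_mem (f := Ideal.Quotient.mk (Ideal.span {x})) hr)
        rw [Ideal.mem_map_iff_of_surjective _ Ideal.Quotient.mk_surjective] at h
        obtain ⟨y, hy, hyr⟩ := h
        rw [Ideal.Quotient.eq] at hyr
        have := p.sub_mem hy ((Ideal.span_singleton_le_iff_mem p).mpr hxp hyr)
        rwa [sub_sub_cancel] at this
    · refine (Ideal.height_le_height_add_one_of_mem hxp).trans ?_
      rw [List.length_map] at hlen'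
      rw [List.length_cons, Nat.cast_add, Nat.cast_one]
      exact add_le_add hlen' le_rfl

/-- Localizations at primes of Cohen–Macaulay local rings are Cohen–Macaulay. -/
theorem isCohenMacaulayLocalRing_atPrime (R : Type u) [CommRing R] [LocCoh.IsCohenMacaulayLocalRing R]
    (p : Ideal R) [p.IsPrime] : LocCoh.IsCohenMacaulayLocalRing (Localization.AtPrime p) := by
  obtain ⟨n, hn⟩ := SerreReg.exists_dim_nat R
  obtain ⟨rs, hw, hmem, hlen⟩ := exists_regular_of_prime n R hn p
  haveI : IsNoetherianRing (Localization.AtPrime p) :=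
    IsLocalization.isNoetherianRing p.primeCompl _ inferInstance
  obtain ⟨d, hd⟩ := SerreReg.exists_dim_nat (Localization.AtPrime p)
  refine isCohenMacaulayLocalRing_of_dim_le_depth hd ?_
  have h1 : IsWeaklyRegular (Localization.AtPrime p) (rs.map (algebraMap R (Localization.AtPrime p))) :=
    hw.of_flat
  refine le_trans ?_ (le_depth_of_isWeaklyRegular h1 fun r hr => ?_)
  · rw [List.length_map]
    refine le_trans ?_ hlen
    have := IsLocalization.AtPrime.ringKrullDim_eq_height p (Localization.AtPrime p)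
    rw [hd, ← WithBot.coe_natCast, WithBot.coe_inj] at this
    exact this.le
  · obtain ⟨s, hs, rfl⟩ := List.mem_map.mp hr
    exact (IsLocalization.AtPrime.to_map_mem_maximal_iff (Localization.AtPrime p) p s).mpr (hmem s hs)

end Groth.Agent.CMFlat

namespace Groth.Agent.CMFlat

open AlgebraicGeometry CategoryTheory

/-- Cohen–Macaulayness passes to generizations. -/
theorem isCohenMacaulay_stalk_of_specializes {X : Scheme.{u}} {x y : X} (h : x ⤳ y)
    (hy : LocCoh.IsCohenMacaulayLocalRing (X.presheaf.stalk y)) :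
    LocCoh.IsCohenMacaulayLocalRing (X.presheaf.stalk x) := by
  obtain ⟨W, hW, hyW, -⟩ := exists_isAffineOpen_mem_and_subset (U := (⊤ : X.Opens)) (x := y) trivial
  let e : Spec Γ(X, W) ⟶ X := hW.fromSpec
  obtain ⟨q, rfl⟩ : y ∈ Set.range e := by rw [hW.range_fromSpec]; exact hyW
  obtain ⟨p, rfl⟩ : x ∈ Set.range e := by rw [hW.range_fromSpec]; exact h.mem_open W.2 hyW
  let st : ∀ z : Spec Γ(X, W), X.presheaf.stalk (e z) ≃+* Localization.AtPrime z.asIdeal := fun z =>
    (asIso (e.stalkMap z)).commRingCatIsoToRingEquiv.trans (StructureSheaf.stalkIso _ z).toRingEquiv.symm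
  haveI : LocCoh.IsCohenMacaulayLocalRing (Localization.AtPrime q.asIdeal) :=
    @CMChart.isCohenMacaulayLocalRing_of_ringEquiv _ _ _ _ (st q) hy
  have hle : p.asIdeal ≤ q.asIdeal := (PrimeSpectrum.le_iff_specializes p q).mpr
    (e.isOpenEmbedding.isInducing.specializes_iff.mp h)
  have hdis : Disjoint (q.asIdeal.primeCompl : Set Γ(X, W)) (p.asIdeal : Set Γ(X, W)) :=
    Set.disjoint_left.mpr fun a ha hap => ha (hle hap)
  haveI := IsLocalization.isPrime_of_isPrime_disjoint q.asIdeal.primeCompl (Localization.AtPrime q.asIdeal)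
    p.asIdeal p.2 hdis
  have hcomap := IsLocalization.under_map_of_isPrime_disjoint q.asIdeal.primeCompl
    (Localization.AtPrime q.asIdeal) p.2 hdis
  let P := p.asIdeal.map (algebraMap Γ(X, W) (Localization.AtPrime q.asIdeal))
  have hP := isCohenMacaulayLocalRing_atPrime (Localization.AtPrime q.asIdeal) P
  have hloc : ∀ (J : Ideal Γ(X, W)) [J.IsPrime], J = P.comap (algebraMap Γ(X, W) (Localization.AtPrime q.asIdeal)) →
      IsLocalization.AtPrime (Localization.AtPrime P) J := by
    intro J _ hJ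
    subst hJ
    exact IsLocalization.isLocalization_isLocalization_atPrime_isLocalization q.asIdeal.primeCompl _ P
  haveI := hloc p.asIdeal hcomap.symm
  exact @CMChart.isCohenMacaulayLocalRing_of_ringEquiv _ _ _ _
    ((IsLocalization.algEquiv p.asIdeal.primeCompl (Localization.AtPrime P)
      (Localization.AtPrime p.asIdeal)).toRingEquiv.trans (st p).symm) hP

end Groth.Agent.CMFlat

namespace Groth.Agent.CMFlat

/-- An equidimensional closed subset of a Cohen–Macaulay local scheme is a union of components of a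
complete intersection. -/
theorem exists_regular_le : ∀ (c : ℕ) (R : Type u) [CommRing R] [LocCoh.IsCohenMacaulayLocalRing R] (d : ℕ)
    (I : Ideal R), ringKrullDim R = ((c + d : ℕ) : WithBot ℕ∞) → ringKrullDim (R ⧸ I) = (d : WithBot ℕ∞) →
    (∀ p ∈ I.minimalPrimes, ringKrullDim (R ⧸ p) = (d : WithBot ℕ∞)) →
    ∃ rs : List R, IsWeaklyRegular R rs ∧ Ideal.ofList rs ≤ I ∧
      ringKrullDim (R ⧸ Ideal.ofList rs) = (d : WithBot ℕ∞) ∧
      I.minimalPrimes ⊆ (Ideal.ofList rs).minimalPrimes := by
  intro c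
  induction c with
  | zero =>
    intro R _ _ d I hR hI hp
    rw [Nat.zero_add] at hR
    refine ⟨[], IsWeaklyRegular.nil R R, by simp, ?_, fun p hp' => ?_⟩
    · rw [Ideal.ofList_nil, ← hR]
      exact ringKrullDim_eq_of_ringEquiv (RingEquiv.quotientBot R)
    · haveI := hp'.1.1
      rw [Ideal.ofList_nil]
      exact mem_minimalPrimes_of_dim_le hR.le p (hp p hp').ge
  | succ c ih =>
    intro R _ _ d I hR hI hp
    have hn : ringKrullDim R = ((c + d + 1 : ℕ) : WithBot ℕ∞) := by
      rw [hR, show c + 1 + d = c + d + 1 by omega]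
    obtain ⟨x, hxI, hx⟩ : ∃ x ∈ I, ∀ q ∈ associatedPrimes R R, x ∉ q := by
      by_contra hcon
      push Not at hcon
      have hfin := associatedPrimes.finite R R
      obtain ⟨q, hq, hle⟩ := (Ideal.subset_union_prime (s := hfin.toFinset) (f := id) ⊥ ⊥
        (fun i hi _ _ => IsAssociatedPrime.isPrime (hfin.mem_toFinset.mp hi))).mp
        (show (I : Set R) ⊆ _ from fun z hz => by
          obtain ⟨q, hq, hzq⟩ := hcon z hz
          exact Set.mem_iUnion₂.mpr ⟨q, hfin.mem_toFinset.mpr hq, hzq⟩)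
      rw [hfin.mem_toFinset] at hq
      have h1 := (CMSop.le_ringKrullDim_quotient_of_hasRegSeq _ inferInstance (hasRegSeq_of_cm hn) q hq).trans
        (ringKrullDim_le_of_surjective (Ideal.Quotient.factor hle) (Ideal.Quotient.factor_surjective hle))
      rw [hI] at h1
      have : c + d + 1 ≤ d := by exact_mod_cast h1
      omega
    have hne : I ≠ ⊤ := fun h => by
      haveI : Subsingleton (R ⧸ I) := Ideal.Quotient.subsingleton_iff.mpr h
      rw [ringKrullDim_eq_bot_of_subsingleton] at hI
      exact WithBot.natCast_ne_bot d hI.symm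
    have hreg : IsSMulRegular R x := CMSop.isSMulRegular_of_forall fun q hq => hx q hq
    obtain ⟨hcm, hdim⟩ := isCohenMacaulayLocalRing_quotient R (le_maximalIdeal hne hxI) hreg hn
    let π := Ideal.Quotient.mk (Ideal.span {x})
    have hker : RingHom.ker π ≤ I := by rwa [Ideal.mk_ker, Ideal.span_singleton_le_iff_mem]
    have hcI : (I.map π).comap π = I := by
      rw [Ideal.comap_map_of_surjective _ Ideal.Quotient.mk_surjective, ← RingHom.ker_eq_comap_bot,
        sup_eq_left.mpr hker]
    have hI' : ringKrullDim ((R ⧸ Ideal.span {x}) ⧸ I.map π) = (d : WithBot ℕ∞) := by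
      rw [← hI]
      exact ringKrullDim_eq_of_ringEquiv (DoubleQuot.quotQuotEquivQuotOfLE
        (by rwa [Ideal.span_singleton_le_iff_mem]))
    have hp' : ∀ p ∈ (I.map π).minimalPrimes,
        ringKrullDim ((R ⧸ Ideal.span {x}) ⧸ p) = (d : WithBot ℕ∞) := by
      intro p hp'
      have h2 : p.comap π ∈ I.minimalPrimes := by
        rw [← hcI, Ideal.comap_minimalPrimes_eq_of_surjective Ideal.Quotient.mk_surjective]
        exact ⟨p, hp', rfl⟩
      rw [← hp _ h2]
      exact (ringKrullDim_eq_of_ringEquiv (RingHom.quotientKerEquivOfSurjective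
        (f := (Ideal.Quotient.mk p).comp π) (Ideal.Quotient.mk_surjective.comp Ideal.Quotient.mk_surjective))).symm.trans
        (ringKrullDim_eq_of_ringEquiv (Ideal.quotEquivOfEq (by rw [← RingHom.comap_ker, Ideal.mk_ker])))
    obtain ⟨rs', hw', hle', hdim', hmin'⟩ := @ih (R ⧸ Ideal.span {x}) _ hcm d (I.map π) hdim hI' hp'
    obtain ⟨rs, rfl⟩ : ∃ rs : List R, rs.map π = rs' :=
      ⟨rs'.map (Function.surjInv Ideal.Quotient.mk_surjective), by
        rw [List.map_map]; exact List.map_id'' (Function.surjInv_eq _) rs'⟩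
    have hmap : (Ideal.ofList rs).map π = Ideal.ofList (rs.map π) := Ideal.map_ofList π rs
    have hJ : (Ideal.ofList (rs.map π)).comap π = Ideal.ofList (x :: rs) := by
      rw [← hmap, Ideal.comap_map_of_surjective _ Ideal.Quotient.mk_surjective, ← RingHom.ker_eq_comap_bot,
        Ideal.mk_ker, Ideal.ofList_cons, sup_comm]
    refine ⟨x :: rs, ?_, ?_, ?_, ?_⟩
    · have e : QuotSMulTop x R ≃ₗ[R] R ⧸ Ideal.span {x} := Submodule.quotEquivOfEq _ _ (by
        rw [← Submodule.ideal_span_singleton_smul, smul_eq_mul, Ideal.mul_top])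
      exact IsWeaklyRegular.cons hreg ((e.isWeaklyRegular_congr rs).2
        ((isWeaklyRegular_map_algebraMap_iff (S := R ⧸ Ideal.span {x}) (R ⧸ Ideal.span {x}) rs).1 hw'))
    · rw [← hJ, ← hcI]; exact Ideal.comap_mono hle'
    · rw [← hdim', ← hJ]
      exact (ringKrullDim_eq_of_ringEquiv (Ideal.quotEquivOfEq (by rw [← RingHom.comap_ker, Ideal.mk_ker]))).trans
        (ringKrullDim_eq_of_ringEquiv (RingHom.quotientKerEquivOfSurjective
          (f := (Ideal.Quotient.mk (Ideal.ofList (rs.map π))).comp π)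
          (Ideal.Quotient.mk_surjective.comp Ideal.Quotient.mk_surjective)))
    · rw [← hcI, ← hJ, Ideal.comap_minimalPrimes_eq_of_surjective Ideal.Quotient.mk_surjective,
        Ideal.comap_minimalPrimes_eq_of_surjective Ideal.Quotient.mk_surjective]
      exact Set.image_mono hmin'

end Groth.Agent.CMFlat
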