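import Groth.Agent.CMFlat.Localization
import Groth.Agent.DimFormula.Field

/-!
# Quotients of Cohen–Macaulay rings by regular sequences; complete intersections
-/

set_option autoImplicit false
set_option linter.style.haveILetI false
universe u

open IsLocalRing RingTheory.Sequence

namespace Groth.Agent.CMFlat

/-- A regular local ring is Cohen–Macaulay. -/
theorem isCohenMacaulayLocalRing_of_isRegularLocalRing (R : Type u) [CommRing R] [IsRegularLocalRing R] :
    LocCoh.IsCohenMacaulayLocalRing R := by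
  obtain ⟨d, hd⟩ := SerreReg.exists_dim_nat R
  obtain ⟨rs, hlen, hreg, hspan⟩ := SerreReg.exists_regular_rsop d R hd
  refine isCohenMacaulayLocalRing_of_dim_le_depth hd ?_
  refine le_trans (by rw [hlen]) (le_depth_of_isWeaklyRegular hreg fun r hr => ?_)
  rw [← hspan]
  exact Ideal.subset_span hr

/-- A Cohen–Macaulay local ring modulo a regular sequence. -/
theorem isCohenMacaulayLocalRing_quotient_ofList : ∀ (rs : List (Σ' _ : Unit, Unit)) (R : Type u) [CommRing R]
    [LocCoh.IsCohenMacaulayLocalRing R] (xs : List R), xs.length = rs.length → IsWeaklyRegular R xs →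
    (∀ x ∈ xs, x ∈ maximalIdeal R) → LocCoh.IsCohenMacaulayLocalRing (R ⧸ Ideal.ofList xs) := by
  intro rs
  induction rs with
  | nil =>
    intro R _ _ xs hl _ _
    rw [List.length_eq_zero_iff.mp hl, Ideal.ofList_nil]
    exact @CMChart.isCohenMacaulayLocalRing_of_ringEquiv _ _ _ _ (RingEquiv.quotientBot R).symm ‹_›
  | cons a rs ih =>
    intro R _ _ xs hl hw hm
    obtain ⟨x, xs, rfl⟩ : ∃ x ys, xs = x :: ys := by
      cases xs with
      | nil => simp at hl
      | cons x ys => exact ⟨x, ys, rfl⟩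
    rw [isWeaklyRegular_cons_iff] at hw
    have hxm := hm x (by simp)
    obtain ⟨n, hn⟩ := SerreReg.exists_dim_nat R
    obtain ⟨n, rfl⟩ : ∃ j, n = j + 1 := by
      rcases n with _ | j
      · exfalso
        have h1 := le_depth_of_isWeaklyRegular (T := R) (rs := [x])
          ((isWeaklyRegular_cons_iff R x []).mpr ⟨hw.1, IsWeaklyRegular.nil R _⟩) (by simpa using hxm)
        have h2 := h1.trans (depth_le_of_dim hn)
        simp at h2
      · exact ⟨j, rfl⟩
    obtain ⟨hcm, hdim⟩ := isCohenMacaulayLocalRing_quotient R hxm hw.1 hn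
    let π := Ideal.Quotient.mk (Ideal.span {x})
    have e : QuotSMulTop x R ≃ₗ[R] R ⧸ Ideal.span {x} := Submodule.quotEquivOfEq _ _ (by
      rw [← Submodule.ideal_span_singleton_smul, smul_eq_mul, Ideal.mul_top])
    have hw' : IsWeaklyRegular (R ⧸ Ideal.span {x}) (xs.map π) :=
      (isWeaklyRegular_map_algebraMap_iff (S := R ⧸ Ideal.span {x}) (R ⧸ Ideal.span {x}) xs).2
        ((e.isWeaklyRegular_congr xs).1 hw.2)
    have hm' : ∀ z ∈ xs.map π, z ∈ maximalIdeal (R ⧸ Ideal.span {x}) := by
      intro z hz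
      obtain ⟨s, hs, rfl⟩ := List.mem_map.mp hz
      exact ((IsLocalHom.of_surjective _ Ideal.Quotient.mk_surjective : IsLocalHom π).map_nonunit s).mt
        (hm s (by simp [hs]))
    haveI := @ih (R ⧸ Ideal.span {x}) _ hcm (xs.map π) (by simpa using hl) hw' hm'
    exact CMChart.isCohenMacaulayLocalRing_of_ringEquiv
      (((Ideal.quotEquivOfEq (Ideal.map_ofList π xs).symm).trans
        (DoubleQuot.quotQuotEquivQuotSup (Ideal.span {x}) (Ideal.ofList xs))).trans
        (Ideal.quotEquivOfEq (Ideal.ofList_cons x xs).symm)) this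

/-- The dimension of a quotient plus the height is at most the dimension. -/
theorem ringKrullDim_quotient_add_le {R : Type u} [CommRing R] (p : Ideal R) [p.IsPrime] :
    ringKrullDim (R ⧸ p) + (p.height : WithBot ℕ∞) ≤ ringKrullDim R := by
  let a : PrimeSpectrum R := ⟨p, inferInstance⟩
  haveI : Nonempty (PrimeSpectrum R) := ⟨a⟩
  have h : ringKrullDim (R ⧸ p) = (Order.coheight a : WithBot ℕ∞) := by
    rw [ringKrullDim_quotient, Order.coheight_eq_krullDim_Ici]; rfl
  rw [h, show p = a.asIdeal from rfl, a.height_eq_orderHeight, ← WithBot.coe_add, add_comm, ringKrullDim,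
    Order.krullDim_eq_iSup_height_add_coheight_of_nonempty]
  exact WithBot.coe_le_coe.mpr (le_iSup (fun b : PrimeSpectrum R => Order.height b + Order.coheight b) a)

/-- Elements cutting out the expected codimension in a Cohen–Macaulay local ring form a regular sequence. -/
theorem isWeaklyRegular_of_height {R : Type u} [CommRing R] [LocCoh.IsCohenMacaulayLocalRing R] (xs : List R)
    (hm : ∀ x ∈ xs, x ∈ maximalIdeal R)
    (h : ∀ p : Ideal R, p.IsPrime → Ideal.ofList xs ≤ p → (xs.length : ℕ∞) ≤ p.height) :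
    IsWeaklyRegular R xs ∧ LocCoh.IsCohenMacaulayLocalRing (R ⧸ Ideal.ofList xs) := by
  have hle : Ideal.ofList xs ≤ maximalIdeal R := Ideal.span_le.mpr hm
  have hne : Ideal.ofList xs ≠ ⊤ := fun e => (maximalIdeal.isMaximal R).ne_top (top_le_iff.mp (e.ge.trans hle))
  haveI : Nontrivial (R ⧸ Ideal.ofList xs) := Ideal.Quotient.nontrivial_iff.mpr hne
  haveI : IsLocalRing (R ⧸ Ideal.ofList xs) := IsLocalRing.of_surjective' _ Ideal.Quotient.mk_surjective
  obtain ⟨n, hn⟩ := SerreReg.exists_dim_nat R
  obtain ⟨e, he⟩ := SerreReg.exists_dim_nat (R ⧸ Ideal.ofList xs)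
  have hup : xs.length + e ≤ n := by
    have h1 : (e : WithBot ℕ∞) ≤ Order.krullDim (PrimeSpectrum.zeroLocus (R := R) (Ideal.ofList xs)) := by
      rw [← ringKrullDim_quotient, he]
    haveI : Nonempty (PrimeSpectrum.zeroLocus (R := R) (Ideal.ofList xs)) :=
      ⟨⟨⟨maximalIdeal R, inferInstance⟩, hle⟩⟩
    obtain ⟨l, hl⟩ := Order.le_krullDim_iff.mp h1
    have h2 := ringKrullDim_quotient_add_le l.head.1.asIdeal
    have h3 : (e : WithBot ℕ∞) ≤ ringKrullDim (R ⧸ l.head.1.asIdeal) := by
      rw [ringKrullDim_quotient]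
      exact Order.le_krullDim_iff.mpr ⟨⟨l.length, fun i => ⟨(l i).1, l.monotone (Fin.zero_le i)⟩,
        fun i => l.step i⟩, hl⟩
    have h4 := (add_le_add h3 (WithBot.coe_le_coe.mpr (h _ l.head.1.2 l.head.2))).trans h2
    rw [hn] at h4
    have : e + xs.length ≤ n := by exact_mod_cast h4
    omega
  have hlow : n ≤ xs.length + e := by
    classical
    have h1 := ringKrullDim_le_ringKrullDim_quotient_add_card (R := R) xs.toFinset (fun x hx => by
      rw [IsLocalRing.ringJacobson_eq_maximalIdeal]; exact hm x (List.mem_toFinset.mp hx))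
    have hspan : Ideal.span (xs.toFinset : Set R) = Ideal.ofList xs := congrArg Ideal.span (by ext; simp)
    rw [hspan, hn, he] at h1
    have h2 : n ≤ e + xs.toFinset.card := by exact_mod_cast h1
    have := List.toFinset_card_le xs
    omega
  have hw : IsWeaklyRegular R xs := FlatLift.isWeaklyRegular_of_dim_cm xs hne (by
    rw [he, hn]; exact_mod_cast (le_antisymm hup hlow))
  exact ⟨hw, isCohenMacaulayLocalRing_quotient_ofList (List.replicate xs.length ⟨(), ()⟩) R xs
    (by simp) hw hm⟩

end Groth.Agent.CMFlat
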