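import Groth.Agent.CMFlat.Quotient

/-!
# Cohen–Macaulayness along flat maps of rings, in terms of fibre rings
-/

set_option autoImplicit false
set_option linter.style.haveILetI false
universe u

open IsLocalRing
open scoped TensorProduct

namespace Groth.Agent.CMFlat

variable {A B : Type u} [CommRing A] [CommRing B] [Algebra A B]

theorem exists_prime_fiber (P : Ideal B) [P.IsPrime] (p : Ideal A) [p.IsPrime] (hp : P.comap (algebraMap A B) = p) :
    ∃ Q : Ideal (p.Fiber B), ∃ _ : Q.IsPrime, Q.comap Algebra.TensorProduct.includeRight = P := by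
  let e := PrimeSpectrum.preimageEquivFiber A B ⟨p, inferInstance⟩
  let x : PrimeSpectrum.comap (algebraMap A B) ⁻¹' {⟨p, inferInstance⟩} :=
    ⟨⟨P, inferInstance⟩, PrimeSpectrum.ext hp⟩
  refine ⟨(e x).asIdeal, (e x).2, ?_⟩
  exact congrArg (fun y => y.1.asIdeal) (e.symm_apply_apply x)

/-- Flat maps of Noetherian rings: Cohen–Macaulayness through a fibre ring. -/
theorem isCohenMacaulay_atPrime_iff [IsNoetherianRing A] [IsNoetherianRing B] [Module.Flat A B]
    (P : Ideal B) [P.IsPrime] (p : Ideal A) [p.IsPrime] (Q : Ideal (p.Fiber B)) [Q.IsPrime]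
    (hQ : Q.comap Algebra.TensorProduct.includeRight = P) :
    LocCoh.IsCohenMacaulayLocalRing (Localization.AtPrime P) ↔
      LocCoh.IsCohenMacaulayLocalRing (Localization.AtPrime p) ∧
        LocCoh.IsCohenMacaulayLocalRing (Localization.AtPrime Q) := by
  subst hQ
  let P := Q.comap (Algebra.TensorProduct.includeRight : B →ₐ[A] p.Fiber B)
  haveI : P.LiesOver p := by
    constructor
    refine (Ideal.over_def Q p).trans ?_
    show Q.comap (algebraMap A (p.Fiber B)) =
      (Q.comap (Algebra.TensorProduct.includeRight : B →ₐ[A] p.Fiber B).toRingHom).comap (algebraMap A B)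
    rw [Ideal.comap_comap, AlgHom.toRingHom_eq_coe, AlgHom.comp_algebraMap]
  letI := Localization.AtPrime.algebraOfLiesOver p P
  haveI : IsLocalHom (algebraMap (Localization.AtPrime p) (Localization.AtPrime P)) := by
    show IsLocalHom (Localization.localRingHom p P (algebraMap A B) _)
    infer_instance
  haveI : Module.Flat B (Localization.AtPrime P) := IsLocalization.flat _ P.primeCompl
  haveI : Module.Flat A (Localization.AtPrime P) := Module.Flat.trans A B _
  haveI : Module.Flat (Localization.AtPrime p) (Localization.AtPrime P) :=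
    (Module.flat_iff_of_isLocalization (Localization.AtPrime p) p.primeCompl _).2 inferInstance
  haveI : IsNoetherianRing (Localization.AtPrime p) := IsLocalization.isNoetherianRing p.primeCompl _ inferInstance
  haveI : IsNoetherianRing (Localization.AtPrime P) := IsLocalization.isNoetherianRing P.primeCompl _ inferInstance
  have hmap : p.map (algebraMap A (Localization.AtPrime P)) =
      (maximalIdeal (Localization.AtPrime p)).map (algebraMap (Localization.AtPrime p) (Localization.AtPrime P)) := by
    rw [← Localization.AtPrime.map_eq_maximalIdeal, Ideal.map_map, ← IsScalarTower.algebraMap_eq]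
  let e := (Ideal.Fiber.localizationAlgEquivQuotient p Q).toRingEquiv.trans (Ideal.quotEquivOfEq hmap)
  rw [isCohenMacaulayLocalRing_iff (R := Localization.AtPrime p) (S := Localization.AtPrime P)]
  exact and_congr_right fun _ => ⟨fun h => @CMChart.isCohenMacaulayLocalRing_of_ringEquiv _ _ _ _ e.symm h,
    fun h => @CMChart.isCohenMacaulayLocalRing_of_ringEquiv _ _ _ _ e h⟩

theorem isCohenMacaulayRing_of_fibers [LocCoh.IsCohenMacaulayRing A] [IsNoetherianRing B] [Module.Flat A B]
    (h : ∀ (p : Ideal A) [p.IsPrime] (Q : Ideal (p.Fiber B)) [Q.IsPrime],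
      LocCoh.IsCohenMacaulayLocalRing (Localization.AtPrime Q)) : LocCoh.IsCohenMacaulayRing B := by
  refine { isCohenMacaulayLocalRing_localization := fun P _ => ?_ }
  obtain ⟨Q, _, hQ⟩ := exists_prime_fiber P (P.comap (algebraMap A B)) rfl
  exact (isCohenMacaulay_atPrime_iff P _ Q hQ).mpr
    ⟨LocCoh.IsCohenMacaulayRing.isCohenMacaulayLocalRing_localization _, h _ Q⟩

/-- The local ring of a fibre ring as a quotient. -/
theorem nonempty_fiber_equiv (P : Ideal B) [P.IsPrime] (p : Ideal A) [p.IsPrime] [P.LiesOver p]
    [Algebra (Localization.AtPrime p) (Localization.AtPrime P)] [Localization.AtPrime.IsLiesOverAlgebra p P]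
    (Q : Ideal (p.Fiber B)) [Q.IsPrime] (hQ : Q.comap Algebra.TensorProduct.includeRight = P) :
    Nonempty (Localization.AtPrime Q ≃+* (Localization.AtPrime P ⧸
      (maximalIdeal (Localization.AtPrime p)).map (algebraMap (Localization.AtPrime p) (Localization.AtPrime P)))) := by
  subst hQ
  refine ⟨(Ideal.Fiber.localizationAlgEquivQuotient p Q).toRingEquiv.trans (Ideal.quotEquivOfEq ?_)⟩
  rw [← Localization.AtPrime.map_eq_maximalIdeal, Ideal.map_map, ← IsScalarTower.algebraMap_eq]

end Groth.Agent.CMFlat
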