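import Groth.Agent.CMFlat.Local
import Groth.Agent.CMChart.Ring
import Mathlib.RingTheory.QuasiFinite.Basic
import Mathlib.RingTheory.RegularLocalRing.Polynomial
import Mathlib.RingTheory.TensorProduct.MvPolynomial
import Mathlib.FieldTheory.IntermediateField.Adjoin.Algebra
import Mathlib.RingTheory.AlgebraicIndependent.TranscendenceBasis

/-!
# Tensor products of fields are Cohen–Macaulay
-/

set_option autoImplicit false
set_option linter.style.haveILetI false
universe u

open IsLocalRing
open scoped TensorProduct

namespace Groth.Agent.CMFlat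

/-- Local rings of an algebra flat and quasi-finite over a regular ring are Cohen–Macaulay. -/
theorem isCohenMacaulay_localization_of_qf_flat {P S : Type u} [CommRing P] [CommRing S] [IsRegularRing P]
    [IsNoetherianRing S] [Algebra P S] [Algebra.QuasiFinite P S] [Module.Flat P S] (q : Ideal S) [q.IsPrime] :
    LocCoh.IsCohenMacaulayLocalRing (Localization.AtPrime q) := by
  let p := q.under P
  letI := Localization.AtPrime.algebraOfLiesOver p q
  haveI : IsRegularLocalRing (Localization.AtPrime p) := IsRegularRing.isRegularLocalRing_localization p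
  haveI : IsLocalHom (algebraMap (Localization.AtPrime p) (Localization.AtPrime q)) := by
    show IsLocalHom (Localization.localRingHom p q (algebraMap P S) rfl)
    infer_instance
  haveI : Module.Flat S (Localization.AtPrime q) := IsLocalization.flat _ q.primeCompl
  haveI : Module.Flat P (Localization.AtPrime q) := Module.Flat.trans P S _
  haveI : Module.Flat (Localization.AtPrime p) (Localization.AtPrime q) :=
    (Module.flat_iff_of_isLocalization (Localization.AtPrime p) p.primeCompl _).2 inferInstance
  refine CMChart.isCohenMacaulayLocalRing_of_flat (R := Localization.AtPrime p) fun J hJ hJc => ?_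
  haveI := hJ
  have h1 : J.comap (algebraMap S (Localization.AtPrime q)) = q := by
    refine Algebra.QuasiFinite.eq_of_le_of_under_eq (R := P) _ q ?_ ?_
    · intro z hz
      by_contra hzq
      exact hJ.ne_top (Ideal.eq_top_of_isUnit_mem J hz
        (IsLocalization.map_units (Localization.AtPrime q) (⟨z, hzq⟩ : q.primeCompl)))
    · show (J.comap (algebraMap S (Localization.AtPrime q))).comap (algebraMap P S) = _
      rw [Ideal.comap_comap, ← IsScalarTower.algebraMap_eq,
        IsScalarTower.algebraMap_eq P (Localization.AtPrime p) (Localization.AtPrime q), ← Ideal.comap_comap, hJc]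
      exact Localization.AtPrime.under_maximalIdeal
  rw [← IsLocalization.map_under q.primeCompl (Localization.AtPrime q) J]
  show (J.comap (algebraMap S (Localization.AtPrime q))).map _ = _
  rw [h1]
  exact Localization.AtPrime.map_eq_maximalIdeal

/-- Local rings transported along ring isomorphisms. -/
theorem isCohenMacaulay_localization_of_ringEquiv {A B : Type u} [CommRing A] [CommRing B] (e : A ≃+* B)
    (h : ∀ (q : Ideal A) [q.IsPrime], LocCoh.IsCohenMacaulayLocalRing (Localization.AtPrime q))
    (q : Ideal B) [q.IsPrime] : LocCoh.IsCohenMacaulayLocalRing (Localization.AtPrime q) :=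
  CMChart.isCohenMacaulayLocalRing_of_ringEquiv
    (IsLocalization.ringEquivOfRingEquiv (S := Localization.AtPrime (q.comap e.toRingHom))
      (Q := Localization.AtPrime q) (M := (q.comap e.toRingHom).primeCompl) (T := q.primeCompl) e (by
        ext b
        exact ⟨fun ⟨a, ha, hab⟩ => hab ▸ ha, fun hb => ⟨e.symm b,
          fun hmem => hb (by simpa using Ideal.mem_comap.mp hmem), e.apply_symm_apply b⟩⟩))
    (h _)

/-- **The tensor product of two field extensions, one of them finitely generated, is Cohen–Macaulay.** -/
theorem isCohenMacaulay_tensor_field (k K L : Type u) [Field k] [Field K] [Field L] [Algebra k K] [Algebra k L]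
    [Algebra.EssFiniteType k K] :
    IsNoetherianRing (L ⊗[k] K) ∧
      ∀ (q : Ideal (L ⊗[k] K)) [q.IsPrime], LocCoh.IsCohenMacaulayLocalRing (Localization.AtPrime q) := by
  obtain ⟨s, hs⟩ := IntermediateField.fg_top k K
  have halg : Algebra.IsAlgebraic (Algebra.adjoin k (s : Set K)) K := by
    rw [← IntermediateField.isAlgebraic_adjoin_iff_top, hs, Algebra.isAlgebraic_iff_isIntegral]
    exact Algebra.isIntegral_of_surjective IntermediateField.topEquiv.surjective
  obtain ⟨t, hts, ht⟩ := exists_isTranscendenceBasis_subset (R := k) (s : Set K)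
  haveI : Finite t := (s.finite_toSet.subset hts).to_subtype
  let P0 := MvPolynomial t k
  letI : Algebra P0 K := (MvPolynomial.aeval ((↑) : t → K)).toRingHom.toAlgebra
  haveI : IsScalarTower k P0 K :=
    IsScalarTower.of_algebraMap_eq fun c => ((MvPolynomial.aeval ((↑) : t → K)).commutes c).symm
  have hinj : Function.Injective (algebraMap P0 K) := ht.1
  haveI : FaithfulSMul P0 K := (faithfulSMul_iff_algebraMap_injective P0 K).2 hinj
  let T := FractionRing P0
  letI : Algebra T K := (IsFractionRing.lift (K := T) hinj).toAlgebra
  haveI : IsScalarTower P0 T K :=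
    IsScalarTower.of_algebraMap_eq fun c => (IsFractionRing.lift_algebraMap hinj c).symm
  haveI : IsScalarTower k T K := IsScalarTower.of_algebraMap_eq fun c => by
    rw [IsScalarTower.algebraMap_apply k P0 T, ← IsScalarTower.algebraMap_apply P0 T K,
      ← IsScalarTower.algebraMap_apply]
  haveI : Algebra.IsAlgebraic P0 K := by
    refine ⟨fun z => ?_⟩
    obtain ⟨p, hp0, hp⟩ := ht.isAlgebraic.1 z
    refine ⟨p.map ht.1.aevalEquiv.symm.toRingEquiv.toRingHom, ?_, ?_⟩
    · rwa [Ne, Polynomial.map_eq_zero_iff ht.1.aevalEquiv.symm.injective]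
    · rw [← hp, Polynomial.aeval_def, Polynomial.aeval_def, Polynomial.eval₂_map]
      congr 1
      ext a
      show ((ht.1.aevalEquiv (ht.1.aevalEquiv.symm a) : Algebra.adjoin k (Set.range ((↑) : t → K))) : K) = a
      rw [AlgEquiv.apply_symm_apply]
  haveI : Algebra.IsAlgebraic T K := Algebra.IsAlgebraic.extendScalars (R := P0) (IsFractionRing.injective P0 T)
  haveI : Algebra.EssFiniteType T K := Algebra.EssFiniteType.of_comp k T K
  haveI : Module.Finite T K := Algebra.finite_of_essFiniteType_of_isAlgebraic
  haveI : Module.Flat P0 T := IsLocalization.flat T (nonZeroDivisors P0)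
  haveI : Module.Flat P0 K := Module.Flat.trans P0 T K
  haveI : Algebra.QuasiFinite P0 K := Algebra.QuasiFinite.trans P0 T K
  haveI : Algebra.EssFiniteType P0 K := Algebra.EssFiniteType.of_comp k P0 K
  let P := P0 ⊗[k] L
  let e : P ≃+* MvPolynomial t L :=
    (Algebra.TensorProduct.comm k P0 L).toRingEquiv.trans (MvPolynomial.algebraTensorAlgEquiv k L).toRingEquiv
  haveI : IsRegularRing P := IsRegularRing.of_ringEquiv e.symm
  haveI : IsNoetherianRing P := isNoetherianRing_of_ringEquiv _ e.symm
  let B := P ⊗[P0] K
  haveI : IsNoetherianRing B := Algebra.EssFiniteType.isNoetherianRing P B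
  let φ : B ≃+* L ⊗[k] K :=
    (((Algebra.TensorProduct.comm P0 P K).toRingEquiv.trans
      (Algebra.TensorProduct.cancelBaseChange k P0 P0 K L).toRingEquiv).trans
        (Algebra.TensorProduct.comm k K L).toRingEquiv)
  exact ⟨isNoetherianRing_of_ringEquiv B φ,
    fun q _ => isCohenMacaulay_localization_of_ringEquiv (A := B) (B := L ⊗[k] K) φ
      (fun q' _ => isCohenMacaulay_localization_of_qf_flat (P := P) q') q⟩

end Groth.Agent.CMFlat
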