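import Groth.Agent.CMChart.Scheme
import Groth.Agent.FlatLift.RegSeq
import Groth.Agent.InjFibre.RegSeq
import Groth.Agent.InjFibre.SliceAlg
import Groth.Agent.InjFibre.SliceScheme
import Groth.Agent.CMSop.Sop
import Mathlib.RingTheory.Regular.Flat
import Mathlib.RingTheory.Flat.EquationalCriterion
import Mathlib.RingTheory.Flat.FaithfullyFlat.Algebra

/-!
# Cohen–Macaulayness along flat local homomorphisms
-/

set_option autoImplicit false
set_option linter.style.haveILetI false
universe u

open IsLocalRing RingTheory.Sequence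

namespace Groth.Agent.CMFlat

/-- The kernel of multiplication by a socle element on a flat module. -/
theorem mem_smul_of_socle {A M : Type u} [CommRing A] [IsLocalRing A] [AddCommGroup M] [Module A M]
    [Module.Flat A M] {t : A} (ht : t ≠ 0) {m : M} (hm : t • m = 0) :
    m ∈ maximalIdeal A • (⊤ : Submodule A M) := by
  obtain ⟨k, a, y, hy, ha⟩ := Module.Flat.isTrivialRelation_of_sum_smul_eq_zero
    (f := fun _ : Fin 1 => t) (x := fun _ => m) (by simpa using hm)
  rw [show m = ∑ j, a 0 j • y j from hy 0]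
  refine Submodule.sum_mem _ fun j _ => Submodule.smul_mem_smul ?_ trivial
  rw [IsLocalRing.mem_maximalIdeal, mem_nonunits_iff]
  intro hu
  have h := ha j
  rw [Fin.sum_univ_one] at h
  exact ht (hu.mul_left_eq_zero.mp h)

/-- Over an Artinian local ring, regular sequences on a flat module are regular on the closed fibre. -/
theorem isWeaklyRegular_residue {A B : Type u} [CommRing A] [IsLocalRing A] [CommRing B] [Algebra A B]
    {t : A} (ht : t ≠ 0) (htm : ∀ c ∈ maximalIdeal A, c * t = 0) {n : ℕ} (hn : maximalIdeal A ^ n = ⊥) :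
    ∀ (rs : List B) (M : Type u) [AddCommGroup M] [Module B M] [Module A M] [IsScalarTower A B M] [Module.Flat A M],
      IsWeaklyRegular M rs →
      IsWeaklyRegular (M ⧸ ((maximalIdeal A).map (algebraMap A B) • ⊤ : Submodule B M)) rs
  | [], _, _, _, _, _, _, _ => IsWeaklyRegular.nil _ _
  | b :: rs, M, _, _, _, _, _, h => by
    rw [isWeaklyRegular_cons_iff] at h ⊢
    have hb : IsSMulRegular (M ⧸ ((maximalIdeal A).map (algebraMap A B) • ⊤ : Submodule B M)) b := by
      refine isSMulRegular_iff_right_eq_zero_of_smul.2 fun q hq => ?_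
      obtain ⟨m, rfl⟩ := Submodule.Quotient.mk_surjective _ q
      rw [← Submodule.Quotient.mk_smul, Submodule.Quotient.mk_eq_zero, InjFibre.mem_smul_top_iff] at hq
      rw [Submodule.Quotient.mk_eq_zero, InjFibre.mem_smul_top_iff]
      refine mem_smul_of_socle ht (h.1 ?_)
      show b • (t • m) = b • 0
      rw [smul_zero, smul_comm]
      refine Submodule.smul_induction_on hq (fun c hc w _ => ?_) fun w w' hw hw' => ?_
      · rw [smul_smul, mul_comm, htm c hc, zero_smul]
      · rw [smul_add, hw, hw', add_zero]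
    obtain ⟨-, hfl⟩ := FlatLift.regular_flat_of_residue hn b hb
    exact ⟨hb, ((FlatLift.quotSwap M _ b).isWeaklyRegular_congr rs).1
      (isWeaklyRegular_residue ht htm hn rs (QuotSMulTop b M) h.2)⟩

theorem ofList_ofFn {T : Type u} [CommRing T] {n : ℕ} (a : Fin n → T) :
    Ideal.ofList (List.ofFn a) = Ideal.span (Set.range a) :=
  congrArg Ideal.span (Set.ext fun x => by simp [List.mem_ofFn])

variable {R S : Type u} [CommRing R] [CommRing S] [IsLocalRing R] [IsLocalRing S] [IsNoetherianRing R]
  [IsNoetherianRing S] [Algebra R S] [IsLocalHom (algebraMap R S)] [Module.Flat R S]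

set_option quotPrecheck false in
local notation "F" => S ⧸ (maximalIdeal R).map (algebraMap R S)

omit [Module.Flat R S] in
theorem map_le : (maximalIdeal R).map (algebraMap R S) ≤ maximalIdeal S :=
  Ideal.map_le_iff_le_comap.mpr (maximalIdeal_comap (algebraMap R S)).ge

theorem dims : ∃ c e : ℕ, ringKrullDim R = (c : WithBot ℕ∞) ∧
    ringKrullDim F = (e : WithBot ℕ∞) ∧ ringKrullDim S = ((c + e : ℕ) : WithBot ℕ∞) := by
  haveI : Nontrivial F := Ideal.Quotient.nontrivial_iff.mpr
    fun h => (maximalIdeal.isMaximal S).ne_top (top_le_iff.mp (h.ge.trans map_le))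
  haveI : IsLocalRing F := IsLocalRing.of_surjective' _ Ideal.Quotient.mk_surjective
  obtain ⟨c, hc⟩ := SerreReg.exists_dim_nat R
  obtain ⟨e, he⟩ := SerreReg.exists_dim_nat F
  refine ⟨c, e, hc, he, ?_⟩
  haveI : (maximalIdeal S).LiesOver (maximalIdeal R) := ⟨(maximalIdeal_comap _).symm⟩
  have hm : (maximalIdeal S).map (Ideal.Quotient.mk ((maximalIdeal R).map (algebraMap R S))) =
      maximalIdeal F := by
    refine IsLocalRing.eq_maximalIdeal ?_
    refine (Ideal.map_eq_top_or_isMaximal_of_surjective _ Ideal.Quotient.mk_surjective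
      (maximalIdeal.isMaximal S)).resolve_left fun h => ?_
    have := congrArg (Ideal.comap (Ideal.Quotient.mk _)) h
    rw [Ideal.comap_map_mk map_le, Ideal.comap_top] at this
    exact (maximalIdeal.isMaximal S).ne_top this
  rw [← IsLocalRing.maximalIdeal_height_eq_ringKrullDim,
    Ideal.height_eq_height_add_of_liesOver_of_hasGoingDown (maximalIdeal R) (maximalIdeal S), hm,
    WithBot.coe_add, IsLocalRing.maximalIdeal_height_eq_ringKrullDim,
    IsLocalRing.maximalIdeal_height_eq_ringKrullDim, hc, he, Nat.cast_add]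

/-- Cohen–Macaulayness goes up when base and closed fibre are Cohen–Macaulay. -/
theorem isCohenMacaulayLocalRing_of_fibre [LocCoh.IsCohenMacaulayLocalRing R]
    [LocCoh.IsCohenMacaulayLocalRing F] : LocCoh.IsCohenMacaulayLocalRing S := by
  obtain ⟨c, e, hc, he, hce⟩ := dims (R := R) (S := S)
  have hdep : ∀ (T : Type u) [CommRing T] [LocCoh.IsCohenMacaulayLocalRing T] (k : ℕ),
      ringKrullDim T = (k : WithBot ℕ∞) → ∃ rs : List T, rs.length = k ∧ IsWeaklyRegular T rs ∧
        ∀ r ∈ rs, r ∈ maximalIdeal T := fun T _ _ k hk => by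
    refine SerreReg.exists_list_of_hasRegSeq k (CMSop.hasRegSeq_of_depth ?_)
    have h := LocCoh.IsCohenMacaulayLocalRing.supportDim_eq_depth (R := T)
    rw [Module.supportDim_self_eq_ringKrullDim, hk, ← WithBot.coe_natCast, WithBot.coe_inj] at h
    exact h.le
  obtain ⟨rR, hlR, hwR, hmR⟩ := hdep R c hc
  obtain ⟨rF, hlF, hwF, hmF⟩ := hdep F e he
  obtain ⟨y, rfl⟩ : ∃ y : List S, y.map (Ideal.Quotient.mk _) = rF :=
    ⟨rF.map (Function.surjInv Ideal.Quotient.mk_surjective), by
      rw [List.map_map]; exact List.map_id'' (Function.surjInv_eq _) rF⟩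
  have hy : IsWeaklyRegular (S ⧸ ((maximalIdeal R).map (algebraMap R S) • (⊤ : Submodule S S))) y := by
    refine ((Submodule.quotEquivOfEq _ _ (show ((maximalIdeal R).map (algebraMap R S) • ⊤ : Submodule S S) =
      (maximalIdeal R).map (algebraMap R S) by rw [smul_eq_mul, Ideal.mul_top])).isWeaklyRegular_congr y).2 ?_
    exact (isWeaklyRegular_map_algebraMap_iff (S := F) F y).1 (by rw [Ideal.Quotient.algebraMap_eq]; exact hwF)
  obtain ⟨hyw, hyf⟩ := InjFibre.regSeq_noeth (A := R) S y hy
  have hyfl := hyf y.length le_rfl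
  rw [List.take_length] at hyfl
  haveI : Module.Flat R (S ⧸ Ideal.ofList y) := Module.Flat.of_linearEquiv ((Submodule.quotEquivOfEq _ _
    (show (Ideal.ofList y • ⊤ : Submodule S S) = Ideal.ofList y by
      rw [smul_eq_mul, Ideal.mul_top])).restrictScalars R).symm
  have hall : IsWeaklyRegular S (y ++ rR.map (algebraMap R S)) := by
    rw [isWeaklyRegular_append_iff]
    refine ⟨hyw, ?_⟩
    have h1 : IsWeaklyRegular (S ⧸ Ideal.ofList y) (rR.map (algebraMap R (S ⧸ Ideal.ofList y))) := hwR.of_flat
    have h2 : IsWeaklyRegular (S ⧸ Ideal.ofList y) (rR.map (algebraMap R S)) := by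
      rw [← isWeaklyRegular_map_algebraMap_iff (S := S ⧸ Ideal.ofList y), List.map_map]
      exact h1
    exact ((Submodule.quotEquivOfEq _ _ (show (Ideal.ofList y • ⊤ : Submodule S S) = Ideal.ofList y by
      rw [smul_eq_mul, Ideal.mul_top])).isWeaklyRegular_congr _).2 h2
  have hmem : ∀ s ∈ y ++ rR.map (algebraMap R S), s ∈ maximalIdeal S := by
    intro s hs
    rcases List.mem_append.mp hs with h | h
    · have := hmF _ (List.mem_map_of_mem h)
      rw [IsLocalRing.mem_maximalIdeal, mem_nonunits_iff] at this ⊢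
      exact fun hu => this (hu.map _)
    · obtain ⟨r, hr, rfl⟩ := List.mem_map.mp h
      exact map_le (Ideal.mem_map_of_mem _ (hmR r hr))
  refine { supportDim_eq_depth := ?_ }
  rw [Module.supportDim_self_eq_ringKrullDim, hce, ← WithBot.coe_natCast, WithBot.coe_inj]
  refine le_antisymm ?_ ?_
  · rw [LocCoh.depth, LocCoh.idealDepth, if_neg (by
      rw [smul_eq_mul, Ideal.mul_top]; exact (maximalIdeal.isMaximal S).ne_top)]
    refine le_iSup₂_of_le (y ++ rR.map (algebraMap R S)) ⟨hall, hmem⟩ ?_
    rw [List.length_append, List.length_map, hlR, ← hlF, List.length_map, add_comm]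
  · refine ENat.forall_natCast_le_iff_le.mp fun k hk => ?_
    obtain ⟨p, hp⟩ := associatedPrimes.nonempty S S
    have h := (CMSop.le_ringKrullDim_quotient_of_hasRegSeq k inferInstance
      (CMSop.hasRegSeq_of_depth hk) p hp).trans (ringKrullDim_le_of_surjective _ Ideal.Quotient.mk_surjective)
    rw [hce] at h
    exact_mod_cast h

/-- In a Cohen–Macaulay ring every system of parameters, in any order, is a regular sequence. -/
theorem isWeaklyRegular_of_radical {T : Type u} [CommRing T] [LocCoh.IsCohenMacaulayLocalRing T] (rs : List T)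
    (hlen : ringKrullDim T = (rs.length : WithBot ℕ∞)) (hrad : (Ideal.ofList rs).radical = maximalIdeal T) :
    IsWeaklyRegular T rs := by
  have hR : CMSop.HasRegSeq (R := T) rs.length T := by
    refine CMSop.hasRegSeq_of_depth ?_
    have h := LocCoh.IsCohenMacaulayLocalRing.supportDim_eq_depth (R := T)
    rw [Module.supportDim_self_eq_ringKrullDim, hlen, ← WithBot.coe_natCast, WithBot.coe_inj] at h
    exact h.le
  have hsop : CMSop.IsSop (fun i : Fin rs.length => rs.get i) := by
    rw [CMSop.IsSop, Set.range_list_get]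
    exact hrad
  have h := SerreReg.isWeaklyRegular_take_of_isSop hsop hR rs.length
  rwa [List.ofFn_get, List.take_length] at h

/-- Cohen–Macaulayness descends to the base and to the closed fibre. -/
theorem isCohenMacaulayLocalRing_descend [LocCoh.IsCohenMacaulayLocalRing S] :
    LocCoh.IsCohenMacaulayLocalRing R ∧ LocCoh.IsCohenMacaulayLocalRing F := by
  obtain ⟨c, e, hc, he, hce⟩ := dims (R := R) (S := S)
  haveI : Nontrivial F := Ideal.Quotient.nontrivial_iff.mpr
    fun h => (maximalIdeal.isMaximal S).ne_top (top_le_iff.mp (h.ge.trans map_le))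
  haveI : IsLocalRing F := IsLocalRing.of_surjective' _ Ideal.Quotient.mk_surjective
  obtain ⟨x, hx⟩ := SerreReg.exists_sop R c hc
  obtain ⟨z₀, hz₀⟩ := SerreReg.exists_sop F e he
  choose z hz using fun i => Ideal.Quotient.mk_surjective (z₀ i)
  let xl := List.ofFn x
  let zl := List.ofFn z
  have hxl : (Ideal.ofList xl).radical = maximalIdeal R := by
    rw [ofList_ofFn]; exact hx
  have hzl : (Ideal.ofList (zl.map (Ideal.Quotient.mk _))).radical = maximalIdeal F := by
    rw [List.map_ofFn, ofList_ofFn,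
      show Ideal.Quotient.mk _ ∘ z = z₀ from funext hz]
    exact hz₀
  have hrad : (Ideal.ofList (xl.map (algebraMap R S) ++ zl)).radical = maximalIdeal S := by
    have hx' : (maximalIdeal R).map (algebraMap R S) ≤
        (Ideal.ofList (xl.map (algebraMap R S) ++ zl)).radical := by
      rw [← hxl]
      refine (Ideal.map_radical_le _).trans (Ideal.radical_mono ?_)
      rw [Ideal.map_ofList, Ideal.ofList_append]; exact le_sup_left
    refine le_antisymm ((Ideal.radical_mono ?_).trans (maximalIdeal.isMaximal S).isPrime.radical.le) fun s hs => ?_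
    · refine Ideal.span_le.mpr fun s hs => ?_
      rcases List.mem_append.mp hs with h | h
      · obtain ⟨r, hr, rfl⟩ := List.mem_map.mp h
        exact map_le (Ideal.mem_map_of_mem _ (hxl.le (Ideal.le_radical (Ideal.subset_span hr))))
      · have := hzl.le (Ideal.le_radical (Ideal.subset_span (List.mem_map_of_mem (f := Ideal.Quotient.mk _) h)))
        show s ∈ maximalIdeal S
        rw [IsLocalRing.mem_maximalIdeal, mem_nonunits_iff] at this ⊢
        exact fun hu => this (hu.map _)
    · have hs' : Ideal.Quotient.mk _ s ∈ (Ideal.ofList (zl.map (Ideal.Quotient.mk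
          ((maximalIdeal R).map (algebraMap R S))))).radical := by
        rw [hzl, IsLocalRing.mem_maximalIdeal, mem_nonunits_iff]
        intro hu
        obtain ⟨v, hv⟩ := Ideal.Quotient.mk_surjective (hu.unit⁻¹ : Fˣ).1
        have h1 : 1 - s * v ∈ maximalIdeal S := map_le (Ideal.Quotient.eq_zero_iff_mem.mp (by
          rw [map_sub, map_one, map_mul, hv, IsUnit.mul_val_inv, sub_self]))
        exact (maximalIdeal.isMaximal S).ne_top (Ideal.eq_top_iff_one _ |>.mpr
          (by simpa using add_mem h1 (Ideal.mul_mem_right v _ hs)))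
      obtain ⟨k, hk⟩ := hs'
      rw [← map_pow, ← Ideal.map_ofList, ← Ideal.mem_comap,
        Ideal.comap_map_of_surjective _ Ideal.Quotient.mk_surjective, ← RingHom.ker_eq_comap_bot, Ideal.mk_ker] at hk
      have : s ^ k ∈ (Ideal.ofList (xl.map (algebraMap R S) ++ zl)).radical :=
        (sup_le (((le_sup_right).trans (Ideal.ofList_append _ _).ge).trans Ideal.le_radical) hx') hk
      exact Ideal.mem_radical_of_pow_mem this
  have hreg := isWeaklyRegular_of_radical _ (by rw [hce]; simp [xl, zl]) hrad
  rw [isWeaklyRegular_append_iff] at hreg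
  haveI := Module.FaithfullyFlat.of_flat_of_isLocalHom (A := R) (B := S)
  have hxreg : IsWeaklyRegular R xl := by
    rw [InjFibre.isWeaklyRegular_ring_iff]
    intro i hi r hr
    have h := (InjFibre.isWeaklyRegular_ring_iff _).1 hreg.1 i (by simpa using hi) (algebraMap R S r) (by
      rw [List.getElem_map, ← List.map_take, ← Ideal.map_ofList, ← map_mul]
      exact Ideal.mem_map_of_mem _ hr)
    rw [← List.map_take, ← Ideal.map_ofList] at h
    rw [← Ideal.comap_map_eq_self_of_faithfullyFlat (B := S) (Ideal.ofList (xl.take i))]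
    exact h
  have hCM : ∀ (T : Type u) [CommRing T] [IsLocalRing T] [IsNoetherianRing T] (rs : List T),
      ringKrullDim T = (rs.length : WithBot ℕ∞) → IsWeaklyRegular T rs → (∀ r ∈ rs, r ∈ maximalIdeal T) →
        LocCoh.IsCohenMacaulayLocalRing T := fun T _ _ _ rs hd hw hm => by
    refine { supportDim_eq_depth := ?_ }
    rw [Module.supportDim_self_eq_ringKrullDim, hd, ← WithBot.coe_natCast, WithBot.coe_inj]
    refine le_antisymm ?_ (ENat.forall_natCast_le_iff_le.mp fun k hk => ?_)
    · rw [LocCoh.depth, LocCoh.idealDepth, if_neg (by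
        rw [smul_eq_mul, Ideal.mul_top]; exact (maximalIdeal.isMaximal T).ne_top)]
      exact le_iSup₂_of_le rs ⟨hw, hm⟩ le_rfl
    · obtain ⟨p, hp⟩ := associatedPrimes.nonempty T T
      have h := (CMSop.le_ringKrullDim_quotient_of_hasRegSeq k inferInstance
        (CMSop.hasRegSeq_of_depth hk) p hp).trans (ringKrullDim_le_of_surjective _ Ideal.Quotient.mk_surjective)
      rw [hd] at h
      exact_mod_cast h
  refine ⟨hCM R xl (by simp [xl, hc]) hxreg fun r hr => hxl.le (Ideal.le_radical (Ideal.subset_span hr)), ?_⟩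
  refine hCM F (zl.map (Ideal.Quotient.mk _)) (by simp [zl, he]) ?_
    fun r hr => hzl.le (Ideal.le_radical (Ideal.subset_span hr))
  -- pass to the Artinian base `R ⧸ J`
  let J := Ideal.ofList xl
  let A := R ⧸ J
  let JS := J.map (algebraMap R S)
  let B := S ⧸ JS
  haveI : Nontrivial A := Ideal.Quotient.nontrivial_iff.mpr fun h =>
    (maximalIdeal.isMaximal R).ne_top (top_le_iff.mp (h.ge.trans (Ideal.le_radical.trans hxl.le)))
  haveI : IsLocalRing A := IsLocalRing.of_surjective' _ Ideal.Quotient.mk_surjective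
  letI : Algebra A B := (Ideal.quotientMap JS (algebraMap R S) Ideal.le_comap_map).toAlgebra
  haveI : IsScalarTower R A B := IsScalarTower.of_algebraMap_eq fun r => rfl
  haveI : Module.Flat A B := by
    haveI := FibCrit.isPushout_quot (A := R) (B := S) J (J := JS) rfl
    exact Module.Flat.of_linearEquiv (Algebra.IsPushout.equiv R A S B).symm.toLinearEquiv
  haveI : IsArtinianRing A := by
    rw [isArtinianRing_iff_isNilpotent_maximalIdeal]
    obtain ⟨n, hn⟩ := Ideal.exists_pow_le_of_le_radical_of_fg hxl.ge (IsNoetherian.noetherian _)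
    refine ⟨n, ?_⟩
    have hm : maximalIdeal A = (maximalIdeal R).map (Ideal.Quotient.mk J) :=
      (IsLocalRing.eq_maximalIdeal ((Ideal.map_eq_top_or_isMaximal_of_surjective _ Ideal.Quotient.mk_surjective
        (maximalIdeal.isMaximal R)).resolve_left fun h => by
          have := congrArg (Ideal.comap (Ideal.Quotient.mk J)) h
          rw [Ideal.comap_map_mk (Ideal.le_radical.trans hxl.le), Ideal.comap_top] at this
          exact (maximalIdeal.isMaximal R).ne_top this)).symm
    rw [hm, ← Ideal.map_pow, Ideal.zero_eq_bot, eq_bot_iff, Ideal.map_le_iff_le_comap, ← RingHom.ker_eq_comap_bot,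
      Ideal.mk_ker]
    exact hn
  obtain ⟨n, hn⟩ := (isArtinianRing_iff_isNilpotent_maximalIdeal A).1 ‹_›
  obtain ⟨p, hp⟩ := associatedPrimes.nonempty A A
  obtain ⟨hpp, t, ht⟩ := isAssociatedPrime_iff.1 (AssociatedPrimes.mem_iff.1 hp)
  have hpm : p = maximalIdeal A := IsLocalRing.eq_maximalIdeal (Ideal.IsPrime.isMaximal' hpp)
  have ht0 : t ≠ 0 := fun h => hpp.ne_top (by rw [ht, h, Ideal.eq_top_iff_one, Submodule.mem_colon_singleton, smul_zero]; exact zero_mem _)
  have htm : ∀ a ∈ maximalIdeal A, a * t = 0 := fun a ha => by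
    rw [← hpm, ht, Submodule.mem_colon_singleton, Submodule.mem_bot] at ha
    exact ha
  have hB : IsWeaklyRegular B (zl.map (Ideal.Quotient.mk JS)) := by
    have h := ((Submodule.quotEquivOfEq _ _ (show (Ideal.ofList (xl.map (algebraMap R S)) • ⊤ : Submodule S S) = JS by
      rw [smul_eq_mul, Ideal.mul_top, ← Ideal.map_ofList])).isWeaklyRegular_congr zl).1 hreg.2
    exact (isWeaklyRegular_map_algebraMap_iff (S := B) B zl).2 h
  have hres := isWeaklyRegular_residue ht0 htm hn _ B hB
  let P := (maximalIdeal A).map (algebraMap A B)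
  have h1 : IsWeaklyRegular (B ⧸ P) ((zl.map (Ideal.Quotient.mk JS)).map (Ideal.Quotient.mk P)) :=
    (isWeaklyRegular_map_algebraMap_iff (S := B ⧸ P) (B ⧸ P) _).2
      (((Submodule.quotEquivOfEq _ _ (show (P • ⊤ : Submodule B B) = P by
        rw [smul_eq_mul, Ideal.mul_top])).isWeaklyRegular_congr _).1 hres)
  let φ : B ⧸ P →+* F := Ideal.Quotient.lift P (Ideal.Quotient.factor (Ideal.map_mono
      (Ideal.le_radical.trans hxl.le) : JS ≤ (maximalIdeal R).map (algebraMap R S))) (by
    intro b hb
    refine (show P ≤ RingHom.ker _ from ?_) hb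
    rw [Ideal.map_le_iff_le_comap]
    intro a ha
    obtain ⟨r, rfl⟩ := Ideal.Quotient.mk_surjective a
    show Ideal.Quotient.mk _ (algebraMap R S r) = 0
    refine Ideal.Quotient.eq_zero_iff_mem.mpr (Ideal.mem_map_of_mem _ ?_)
    rw [IsLocalRing.mem_maximalIdeal, mem_nonunits_iff] at ha ⊢
    exact fun hu => ha (hu.map _))
  have hφ : Function.Bijective φ := by
    refine ⟨?_, fun q => ?_⟩
    · rw [injective_iff_map_eq_zero]
      intro q hq
      obtain ⟨b, rfl⟩ := Ideal.Quotient.mk_surjective q
      obtain ⟨s, rfl⟩ := Ideal.Quotient.mk_surjective b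
      have hs : s ∈ (maximalIdeal R).map (algebraMap R S) := Ideal.Quotient.eq_zero_iff_mem.mp hq
      rw [← RingHom.comp_apply]
      refine RingHom.mem_ker.mp ((Ideal.map_le_iff_le_comap.mpr ?_) hs)
      intro r hr
      show Ideal.Quotient.mk P (Ideal.Quotient.mk JS (algebraMap R S r)) = 0
      refine Ideal.Quotient.eq_zero_iff_mem.mpr ?_
      refine Ideal.mem_map_of_mem (algebraMap A B) (show Ideal.Quotient.mk J r ∈ maximalIdeal A from ?_)
      rw [IsLocalRing.mem_maximalIdeal, mem_nonunits_iff]
      intro hu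
      obtain ⟨v, hv⟩ := Ideal.Quotient.mk_surjective (hu.unit⁻¹ : Aˣ).1
      have h2 : 1 - r * v ∈ maximalIdeal R := Ideal.le_radical.trans hxl.le (Ideal.Quotient.eq_zero_iff_mem.mp (by
        rw [map_sub, map_one, map_mul, hv, IsUnit.mul_val_inv, sub_self]))
      exact (maximalIdeal.isMaximal R).ne_top (Ideal.eq_top_iff_one _ |>.mpr
        (by simpa using add_mem h2 (Ideal.mul_mem_right v _ hr)))
    · obtain ⟨s, rfl⟩ := Ideal.Quotient.mk_surjective q
      exact ⟨Ideal.Quotient.mk P (Ideal.Quotient.mk JS s), rfl⟩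
  have h2 := InjFibre.isWeaklyRegular_map_ringEquiv φ hφ h1
  rw [List.map_map, List.map_map] at h2
  exact h2

/-- **Cohen–Macaulayness along a flat local homomorphism.** -/
theorem isCohenMacaulayLocalRing_iff : LocCoh.IsCohenMacaulayLocalRing S ↔
    LocCoh.IsCohenMacaulayLocalRing R ∧ LocCoh.IsCohenMacaulayLocalRing F :=
  ⟨fun _ => isCohenMacaulayLocalRing_descend, fun ⟨_, _⟩ => isCohenMacaulayLocalRing_of_fibre (R := R)⟩

end Groth.Agent.CMFlat
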