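import Groth.Agent.CMFlat.Quotient
import Groth.Prelude.Def_RegImm

/-!
# Closed subschemes cut out by regular sequences in Cohen–Macaulay schemes
-/

set_option autoImplicit false
set_option linter.style.haveILetI false
universe u

open CategoryTheory AlgebraicGeometry IsLocalRing RingTheory.Sequence

namespace Groth.Agent.CMFlat

variable {X Z : Scheme.{u}}

theorem ker_stalkMap_eq (i : Z ⟶ X) [IsClosedImmersion i] (z : Z) (U : X.affineOpens) (hz : i z ∈ (U : X.Opens)) :
    RingHom.ker (i.stalkMap z).hom =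
      (RingHom.ker (i.app U.1).hom).map (X.presheaf.germ U.1 (i z) hz).hom := by
  refine le_antisymm (fun a ha => ?_) ?_
  · have hW : IsAffineOpen (i ⁻¹ᵁ U.1) := U.2.preimage i
    letI := (X.presheaf.germ U.1 (i z) hz).hom.toAlgebra
    haveI := U.2.isLocalization_stalk ⟨i z, hz⟩
    letI := (Z.presheaf.germ (i ⁻¹ᵁ U.1) z hz).hom.toAlgebra
    haveI := hW.isLocalization_stalk ⟨z, hz⟩
    obtain ⟨s, c, rfl⟩ := IsLocalization.exists_mk'_eq (U.2.primeIdealOf ⟨i z, hz⟩).asIdeal.primeCompl a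
    rw [IsLocalization.mk'_mem_iff]
    have h0 : (Z.presheaf.germ (i ⁻¹ᵁ U.1) z hz).hom ((i.app U.1).hom s) = 0 := by
      refine (Scheme.Hom.germ_stalkMap_apply i U.1 z hz s).symm.trans ?_
      change (i.stalkMap z).hom (algebraMap Γ(X, U.1) _ s) = 0
      rw [← IsLocalization.mk'_spec _ s c, map_mul, RingHom.mem_ker.1 ha, zero_mul]
    obtain ⟨⟨b, hb⟩, hbs⟩ := (IsLocalization.map_eq_zero_iff
      (hW.primeIdealOf ⟨z, hz⟩).asIdeal.primeCompl _ _).1 h0
    obtain ⟨b', rfl⟩ := i.app_surjective U.1 U.2 b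
    have hb' : b' ∉ (U.2.primeIdealOf ⟨i z, hz⟩).asIdeal := by
      intro hmem
      have hp := congrArg PrimeSpectrum.asIdeal
        (IsAffineOpen.comap_primeIdealOf_appLE (f := i) U.1 U.2 _ hW le_rfl (x := z) hz)
      rw [← hp] at hmem
      apply hb
      rwa [Scheme.Hom.app_eq_appLE]
    have hmem : b' * s ∈ RingHom.ker (i.app U.1).hom := by
      rw [RingHom.mem_ker, map_mul]; exact hbs
    have hu : IsUnit (algebraMap Γ(X, U.1) (X.presheaf.stalk (i z)) b') :=
      IsLocalization.map_units (M := (U.2.primeIdealOf ⟨i z, hz⟩).asIdeal.primeCompl) _ ⟨b', hb'⟩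
    have := Ideal.mem_map_of_mem (X.presheaf.germ U.1 (i z) hz).hom hmem
    rw [map_mul] at this
    exact (Ideal.unit_mul_mem_iff_mem _ hu).1 this
  · refine Ideal.map_le_iff_le_comap.mpr fun a ha => ?_
    show (i.stalkMap z).hom ((X.presheaf.germ U.1 (i z) hz).hom a) = 0
    refine (Scheme.Hom.germ_stalkMap_apply i U.1 z hz a).trans ?_
    rw [show (i.app U.1) a = 0 from ha, map_zero]

theorem isCohenMacaulay_stalk_of_regularImmersion [IsLocallyNoetherian X]
    (i : Z ⟶ X) [IsClosedImmersion i] (hi : RegImm.IsRegularImmersion RegImm.Kind.regular i) (z : Z)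
    (hCM : LocCoh.IsCohenMacaulayLocalRing (X.presheaf.stalk (i z))) :
    LocCoh.IsCohenMacaulayLocalRing (Z.presheaf.stalk z) := by
  obtain ⟨U, hU, -, rs, hrs, hker⟩ := hi.2 z
  letI := (X.presheaf.germ U.1 (i z) hU).hom.toAlgebra
  haveI := U.2.isLocalization_stalk ⟨i z, hU⟩
  haveI : Module.Flat Γ(X, U.1) (X.presheaf.stalk (i z)) :=
    IsLocalization.flat _ (U.2.primeIdealOf ⟨i z, hU⟩).asIdeal.primeCompl
  have hw : IsWeaklyRegular (X.presheaf.stalk (i z))
      (rs.map (algebraMap Γ(X, U.1) (X.presheaf.stalk (i z)))) := hrs.toIsWeaklyRegular.of_flat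
  have hK : RingHom.ker (i.stalkMap z).hom =
      Ideal.ofList (rs.map (algebraMap Γ(X, U.1) (X.presheaf.stalk (i z)))) := by
    rw [ker_stalkMap_eq i z U hU, hker, Ideal.map_ofList]
    rfl
  have hm : ∀ x ∈ rs.map (algebraMap Γ(X, U.1) (X.presheaf.stalk (i z))),
      x ∈ maximalIdeal (X.presheaf.stalk (i z)) := fun x hx =>
    le_maximalIdeal (RingHom.ker_ne_top _) (hK.ge (Ideal.subset_span hx))
  haveI := isCohenMacaulayLocalRing_quotient_ofList (List.replicate rs.length ⟨(), ()⟩)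
    (X.presheaf.stalk (i z)) _ (by simp) hw hm
  exact CMChart.isCohenMacaulayLocalRing_of_ringEquiv
    ((Ideal.quotEquivOfEq hK.symm).trans (RingHom.quotientKerEquivOfSurjective (i.stalkMap_surjective z))) this

end Groth.Agent.CMFlat
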