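import Groth.Agent.CMFlat.BaseField
import Groth.Agent.CMFlat.Comp
import Groth.Agent.ConsEngine.Fiber

/-!
# Cohen–Macaulay morphisms and base change
-/

set_option autoImplicit false
set_option linter.style.haveILetI false
universe u

open CategoryTheory AlgebraicGeometry Limits
open scoped TensorProduct

namespace Groth.Agent.CMFlat

variable {X Y X' Y' : Scheme.{u}} {f : X ⟶ Y} {f' : X' ⟶ Y'} {g' : X' ⟶ X} {g : Y' ⟶ Y}

/-- The local ring of the fibre at a point lying over `x` is the one at `f.asFiber x`. -/
theorem nonempty_stalk_equiv_asFiber (f : X ⟶ Y) (x : X) {y : Y} (z : f.fiber y) (hz : f.fiberι y z = x) :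
    Nonempty ((f.fiber y).presheaf.stalk z ≃+* (f.fiber (f x)).presheaf.stalk (f.asFiber x)) := by
  have hy : f x = y := by
    have := Set.mem_range_self (f := f.fiberι y) z
    rw [Scheme.Hom.range_fiberι] at this
    rw [← hz]; exact this
  subst hy
  have : z = f.asFiber x := (f.fiberι (f x)).isEmbedding.injective (by rw [hz, Scheme.Hom.fiberι_asFiber])
  subst this
  exact ⟨RingEquiv.refl _⟩

theorem essFiniteType_residueFieldMap (g : Y' ⟶ Y) [LocallyOfFiniteType g] (y' : Y') :
    (g.residueFieldMap y').hom.EssFiniteType := by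
  have h := (LocallyOfFiniteType.stalkMap g y').comp
    (RingHom.FiniteType.of_surjective (Y'.residue y').hom (Y'.residue_surjective y')).essFiniteType
  rw [← CommRingCat.hom_comp, ← Scheme.residue_residueFieldMap, CommRingCat.hom_comp] at h
  exact h.of_comp

theorem isLocallyNoetherian_fiber_baseChange [LocallyOfFiniteType g] (hc : IsPullback g' f' f g) (y' : Y')
    (hN : IsLocallyNoetherian (f.fiber (g y'))) : IsLocallyNoetherian (f'.fiber y') := by
  letI := (g.residueFieldMap y').hom.toAlgebra
  haveI : Algebra.EssFiniteType (Y.residueField (g y')) (Y'.residueField y') :=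
    RingHom.essFiniteType_algebraMap.mp (by
      rw [RingHom.algebraMap_toAlgebra]; exact essFiniteType_residueFieldMap g y')
  letI : (f.fiber (g y')).Over (Spec (CommRingCat.of (Y.residueField (g y')))) :=
    ⟨f.fiberToSpecResidueField (g y')⟩
  have := isLocallyNoetherian_bc (Y.residueField (g y')) (f.fiber (g y')) (Y'.residueField y')
  exact @isLocallyNoetherian_of_isOpenImmersion _ _ (ConsEngine.isPullback_fiberBC hc y').isoPullback.hom
    inferInstance this

/-- The fields in play: either the extension of residue fields is essentially of finite type, or the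
fibre is locally of finite type. -/
theorem isCohenMacaulay_fiber_iff (hc : IsPullback g' f' f g) (x' : X')
    [IsLocallyNoetherian (f.fiber (g (f' x')))]
    (h : (LocallyOfFiniteType g) ∨ LocallyOfFiniteType f) :
    LocCoh.IsCohenMacaulayLocalRing ((f.fiber (f (g' x'))).presheaf.stalk (f.asFiber (g' x'))) ↔
      LocCoh.IsCohenMacaulayLocalRing ((f'.fiber (f' x')).presheaf.stalk (f'.asFiber x')) := by
  let y' := f' x'
  let k := Y.residueField (g y')
  let k' := Y'.residueField y'
  letI : Algebra k k' := (g.residueFieldMap y').hom.toAlgebra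
  letI : (f.fiber (g y')).Over (Spec (CommRingCat.of k)) := ⟨f.fiberToSpecResidueField (g y')⟩
  let e := (ConsEngine.isPullback_fiberBC hc y').isoPullback
  let z : ↥(Curv2.bc k (f.fiber (g y')) k') := e.hom (f'.asFiber x')
  have hι : f.fiberι (g y') (Curv2.bcFst k (f.fiber (g y')) k' z) = g' x' := by
    show f.fiberι (g y') ((e.hom ≫ pullback.fst _ _) (f'.asFiber x')) = g' x'
    rw [IsPullback.isoPullback_hom_fst, ← Scheme.Hom.comp_apply, ConsEngine.fiberBC_fiberι,
      Scheme.Hom.comp_apply, Scheme.Hom.fiberι_asFiber]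
  obtain ⟨e1⟩ := nonempty_stalk_equiv_asFiber f (g' x') _ hι
  let e2 : (Curv2.bc k (f.fiber (g y')) k').presheaf.stalk z ≃+* (f'.fiber y').presheaf.stalk (f'.asFiber x') :=
    (asIso (e.hom.stalkMap (f'.asFiber x'))).commRingCatIsoToRingEquiv
  have main : LocCoh.IsCohenMacaulayLocalRing ((f.fiber (g y')).presheaf.stalk
        (Curv2.bcFst k (f.fiber (g y')) k' z)) ↔
      LocCoh.IsCohenMacaulayLocalRing ((Curv2.bc k (f.fiber (g y')) k').presheaf.stalk z) := by
    rcases h with h | h
    · haveI : Algebra.EssFiniteType k k' := RingHom.essFiniteType_algebraMap.mp (by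
        rw [RingHom.algebraMap_toAlgebra]; exact essFiniteType_residueFieldMap g y')
      haveI := isLocallyNoetherian_bc k (f.fiber (g y')) k'
      refine isCohenMacaulay_bc_iff k (f.fiber (g y')) k' z ?_
      letI := (resHom k (f.fiber (g y')) (Curv2.bcFst k (f.fiber (g y')) k' z)).hom.toAlgebra
      exact (isCohenMacaulay_tensor_field k k' _).2
    · haveI : LocallyOfFiniteType (f.fiberToSpecResidueField (g y')) :=
        MorphismProperty.of_isPullback (P := @LocallyOfFiniteType) (ConsEngine.isPullback_fiber f (g y')) h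
      haveI : LocallyOfFiniteType (f.fiber (g y') ↘ Spec (CommRingCat.of k)) :=
        inferInstanceAs (LocallyOfFiniteType (f.fiberToSpecResidueField (g y')))
      haveI : LocallyOfFiniteType
          (pullback.snd (f.fiber (g y') ↘ Spec (CommRingCat.of k))
            (Spec.map (CommRingCat.ofHom (algebraMap k k')))) :=
        MorphismProperty.pullback_snd (P := @LocallyOfFiniteType) _ _ inferInstance
      haveI : IsLocallyNoetherian (Curv2.bc k (f.fiber (g y')) k') :=
        LocallyOfFiniteType.isLocallyNoetherian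
          (pullback.snd (f.fiber (g y') ↘ Spec (CommRingCat.of k))
            (Spec.map (CommRingCat.ofHom (algebraMap k k'))))
      refine isCohenMacaulay_bc_iff k (f.fiber (g y')) k' z ?_
      letI := (resHom k (f.fiber (g y')) (Curv2.bcFst k (f.fiber (g y')) k' z)).hom.toAlgebra
      haveI : Algebra.EssFiniteType k ((f.fiber (g y')).residueField (Curv2.bcFst k (f.fiber (g y')) k' z)) :=
        RingHom.essFiniteType_algebraMap.mp (by
          rw [RingHom.algebraMap_toAlgebra]; exact essFiniteType_resHom k (f.fiber (g y')) _)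
      exact isCohenMacaulay_localization_of_ringEquiv
        (Algebra.TensorProduct.comm k k' _).toRingEquiv
        (isCohenMacaulay_tensor_field k _ k').2
  exact ⟨fun H => by
      haveI := main.mp (@CMChart.isCohenMacaulayLocalRing_of_ringEquiv _ _ _ _ e1.symm H)
      exact CMChart.isCohenMacaulayLocalRing_of_ringEquiv e2 this,
    fun H => CMChart.isCohenMacaulayLocalRing_of_ringEquiv e1
      (main.mpr (CMChart.isCohenMacaulayLocalRing_of_ringEquiv e2.symm H))⟩

theorem isCMAt_baseChange (hc : IsPullback g' f' f g) (x' : X')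
    [IsLocallyNoetherian (f.fiber (g (f' x')))] (h : LocallyOfFiniteType g ∨ LocallyOfFiniteType f)
    (hx : MoreMor.IsCMAt f (g' x')) : MoreMor.IsCMAt f' x' :=
  ⟨flatAt_baseChange hc hx.1, (isCohenMacaulay_fiber_iff hc x' h).mp hx.2⟩

theorem isCMAt_of_baseChange (hc : IsPullback g' f' f g) (x' : X')
    [IsLocallyNoetherian (f.fiber (g (f' x')))] (h : LocallyOfFiniteType g ∨ LocallyOfFiniteType f)
    (hfl : (f.stalkMap (g' x')).hom.Flat) (hx : MoreMor.IsCMAt f' x') : MoreMor.IsCMAt f (g' x') :=
  ⟨hfl, (isCohenMacaulay_fiber_iff hc x' h).mpr hx.2⟩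

theorem flatAt_of_flatAt_baseChange (hc : IsPullback g' f' f g) (x' : X')
    (hg : (g.stalkMap (f' x')).hom.Flat) (hf' : (f'.stalkMap x').hom.Flat) :
    (f.stalkMap (g' x')).hom.Flat := by
  have h1 : FibreFlat.FlatAt (f' ≫ g) x' := FibreFlat.flatAt_comp hf' hg
  rw [← hc.w] at h1
  exact FibreFlat.flatAt_of_comp (flatAt_baseChange hc.flip hg) h1

/-- Local Noetherianity descends along an extension of the base field. -/
theorem isLocallyNoetherian_of_bc (k : Type u) [Field k] (X : Scheme.{u}) [X.Over (Spec (CommRingCat.of k))]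
    (k' : Type u) [Field k'] [Algebra k k'] [IsLocallyNoetherian (Curv2.bc k X k')] :
    IsLocallyNoetherian X := by
  refine ⟨fun U => ?_⟩
  have hU := U.2
  obtain ⟨φ, hφ⟩ := Spec.map_surjective (hU.fromSpec ≫ X ↘ Spec (CommRingCat.of k))
  letI : Algebra k Γ(X, U.1) := φ.hom.toAlgebra
  let g := Spec.map (CommRingCat.ofHom (algebraMap k k'))
  let j : pullback (hU.fromSpec ≫ X ↘ Spec (CommRingCat.of k)) g ⟶ Curv2.bc k X k' :=
    pullback.map _ _ _ _ hU.fromSpec (𝟙 _) (𝟙 _) (by simp) (by simp [g])
  haveI : IsLocallyNoetherian (pullback (hU.fromSpec ≫ X ↘ Spec (CommRingCat.of k)) g) :=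
    isLocallyNoetherian_of_isOpenImmersion j
  rw [← hφ] at *
  haveI : IsLocallyNoetherian (Spec (CommRingCat.of (Γ(X, U.1) ⊗[k] k'))) :=
    isLocallyNoetherian_of_isOpenImmersion (pullbackSpecIso k Γ(X, U.1) k').inv
  haveI : IsNoetherianRing (Γ(X, U.1) ⊗[k] k') := isLocallyNoetherian_Spec.mp ‹_›
  exact Hensel.isNoetherianRing_of_faithfullyFlat (S := Γ(X, U.1) ⊗[k] k')

end Groth.Agent.CMFlat
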