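import Groth.Agent.CMFlat.Scheme
import Groth.Agent.CMFlat.FieldTensor
import Groth.Agent.CMChart.OverField
import Groth.Prelude.Def_CurvBase

/-!
# Cohen–Macaulay local rings and extension of the base field
-/

set_option autoImplicit false
set_option linter.style.haveILetI false
universe u

open CategoryTheory AlgebraicGeometry Limits
open scoped TensorProduct

namespace Groth.Agent.CMFlat

variable (k : Type u) [Field k] (X : Scheme.{u}) [X.Over (Spec (CommRingCat.of k))]
  (k' : Type u) [Field k'] [Algebra k k']

/-- The ring map from the base field to a residue field. -/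
noncomputable def resHom (x : X) : CommRingCat.of k ⟶ X.residueField x :=
  Spec.preimage (X.fromSpecResidueField x ≫ X ↘ Spec (CommRingCat.of k))

theorem essFiniteType_resHom [LocallyOfFiniteType (X ↘ Spec (CommRingCat.of k))] (x : X) :
    (resHom k X x).hom.EssFiniteType := by
  let p := X ↘ Spec (CommRingCat.of k)
  haveI := CMChart.isIso_fromSpecResidueField_field (k := k) (p x)
  let i : CommRingCat.of k ⟶ (Spec (CommRingCat.of k)).residueField (p x) :=
    Spec.preimage ((Spec (CommRingCat.of k)).fromSpecResidueField (p x))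
  haveI : IsIso (Spec.map i) := by rw [Spec.map_preimage]; infer_instance
  haveI : IsIso (Scheme.Spec.map i.op) := inferInstanceAs (IsIso (Spec.map i))
  haveI : IsIso i.op := Spec.fullyFaithful.isIso_of_isIso_map _
  haveI : IsIso i := isIso_of_op i
  have e : resHom k X x = i ≫ p.residueFieldMap x := Spec.map_injective (by
    rw [resHom, Spec.map_preimage, Spec.map_comp, Spec.map_preimage,
      Scheme.Hom.SpecMap_residueFieldMap_fromSpecResidueField])
  rw [e]
  have h1 : (p.residueFieldMap x).hom.EssFiniteType := by
    have h := (LocallyOfFiniteType.stalkMap p x).comp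
      (RingHom.FiniteType.of_surjective (X.residue x).hom (X.residue_surjective x)).essFiniteType
    rw [← CommRingCat.hom_comp, ← Scheme.residue_residueFieldMap, CommRingCat.hom_comp] at h
    exact h.of_comp
  exact (RingHom.EssFiniteType.respectsIso.cancel_left_isIso i _).mpr h1

theorem isLocallyNoetherian_bc [IsLocallyNoetherian X] [Algebra.EssFiniteType k k'] :
    IsLocallyNoetherian (Curv2.bc k X k') := by
  let p := X ↘ Spec (CommRingCat.of k)
  rw [isLocallyNoetherian_iff_openCover (Scheme.Pullback.openCoverOfLeft X.affineCover p _)]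
  intro i
  let R := X.affineCover.X i
  show IsLocallyNoetherian (pullback (X.affineCover.f i ≫ p) (Spec.map (CommRingCat.ofHom (algebraMap k k'))))
  haveI : IsLocallyNoetherian R := isLocallyNoetherian_of_isOpenImmersion (X.affineCover.f i)
  obtain ⟨A, hA⟩ : ∃ A : CommRingCat.{u}, R = Spec A := ⟨_, rfl⟩
  revert hA
  generalize X.affineCover.f i = j
  intro hA
  revert j
  rw [show X.affineCover.X i = Spec A from hA]
  intro j
  haveI : IsNoetherianRing A := isLocallyNoetherian_Spec.mp (hA ▸ ‹IsLocallyNoetherian R›)
  obtain ⟨φ, hφ⟩ := Spec.map_surjective (j ≫ p)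
  rw [← hφ]
  letI := φ.hom.toAlgebra
  haveI : IsNoetherianRing (A ⊗[k] k') := Algebra.EssFiniteType.isNoetherianRing A _
  exact isLocallyNoetherian_of_isOpenImmersion (pullbackSpecIso k A k').hom

/-- The fibres of a base field extension have Cohen–Macaulay local rings. -/
theorem isCohenMacaulay_fiber_bcFst (x' : ↥(Curv2.bc k X k'))
    (h : letI := (resHom k X (Curv2.bcFst k X k' x')).hom.toAlgebra
      ∀ (q : Ideal ((X.residueField (Curv2.bcFst k X k' x')) ⊗[k] k')) [q.IsPrime],
        LocCoh.IsCohenMacaulayLocalRing (Localization.AtPrime q)) :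
    LocCoh.IsCohenMacaulayLocalRing
      (((Curv2.bcFst k X k').fiber (Curv2.bcFst k X k' x')).presheaf.stalk ((Curv2.bcFst k X k').asFiber x')) := by
  let x := Curv2.bcFst k X k' x'
  let p := X ↘ Spec (CommRingCat.of k)
  let g := Spec.map (CommRingCat.ofHom (algebraMap k k'))
  letI := (resHom k X x).hom.toAlgebra
  have h1 : IsPullback ((Curv2.bcFst k X k').fiberToSpecResidueField x)
      ((Curv2.bcFst k X k').fiberι x ≫ pullback.snd p g) (X.fromSpecResidueField x ≫ p) g :=
    (IsPullback.of_hasPullback (Curv2.bcFst k X k') (X.fromSpecResidueField x)).flip.paste_vert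
      (IsPullback.of_hasPullback p g)
  have h2 : X.fromSpecResidueField x ≫ p =
      Spec.map (CommRingCat.ofHom (algebraMap k (X.residueField x))) := (Spec.map_preimage _).symm
  rw [h2] at h1
  let e : (Curv2.bcFst k X k').fiber x ≅ Spec (CommRingCat.of ((X.residueField x) ⊗[k] k')) :=
    h1.isoPullback ≪≫ pullbackSpecIso k (X.residueField x) k'
  let z := (Curv2.bcFst k X k').asFiber x'
  exact CMChart.isCohenMacaulayLocalRing_of_ringEquiv
    (((StructureSheaf.stalkIso _ (e.hom z)).toRingEquiv).trans
      (asIso (e.hom.stalkMap z)).commRingCatIsoToRingEquiv) (h (e.hom z).asIdeal)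

/-- Cohen–Macaulayness of local rings is insensitive to the base field. -/
theorem isCohenMacaulay_bc_iff [IsLocallyNoetherian X] [IsLocallyNoetherian (Curv2.bc k X k')]
    (x' : ↥(Curv2.bc k X k'))
    (h : letI := (resHom k X (Curv2.bcFst k X k' x')).hom.toAlgebra
      ∀ (q : Ideal ((X.residueField (Curv2.bcFst k X k' x')) ⊗[k] k')) [q.IsPrime],
        LocCoh.IsCohenMacaulayLocalRing (Localization.AtPrime q)) :
    LocCoh.IsCohenMacaulayLocalRing (X.presheaf.stalk (Curv2.bcFst k X k' x')) ↔
      LocCoh.IsCohenMacaulayLocalRing ((Curv2.bc k X k').presheaf.stalk x') := by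
  haveI : Flat (Spec.map (CommRingCat.ofHom (algebraMap k k'))) :=
    Flat.SpecMap_iff.2 (RingHom.flat_algebraMap_iff.mpr inferInstance)
  haveI : Flat (Curv2.bcFst k X k') := MorphismProperty.pullback_fst (P := @Flat) _ _ inferInstance
  rw [isCohenMacaulay_stalk_iff (Curv2.bcFst k X k') x' (Flat.stalkMap _ x')]
  exact (and_iff_left (isCohenMacaulay_fiber_bcFst k X k' x' h)).symm

end Groth.Agent.CMFlat
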