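import Groth.Agent.CMFlat.BaseChange
import Groth.Agent.CMChart.Locus
import Groth.Agent.ConsEngine.Smooth
import Groth.Agent.ConsEngine.SetProp
import Groth.Agent.S0414

/-!
# Constructibility of the Cohen–Macaulay loci of the fibres
-/

set_option autoImplicit false
set_option linter.style.haveILetI false
set_option linter.unusedVariables false
universe u

open CategoryTheory AlgebraicGeometry Limits Set.Notation

namespace Groth.Agent.CMFlat

variable {X Y S : Scheme.{u}}

/-- The points at which the fibre is Cohen–Macaulay. -/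
def fibreCMSet (f : X ⟶ S) : Set X :=
  {x | LocCoh.IsCohenMacaulayLocalRing ((f.fiber (f x)).presheaf.stalk (f.asFiber x))}

/-- All local rings are Cohen–Macaulay. -/
def AllCM (Y : Scheme.{u}) : Prop := ∀ y : Y, LocCoh.IsCohenMacaulayLocalRing (Y.presheaf.stalk y)

theorem fibreCM_iff_stalk (f : X ⟶ S) {s : S} (z : f.fiber s) :
    LocCoh.IsCohenMacaulayLocalRing ((f.fiber s).presheaf.stalk z) ↔ f.fiberι s z ∈ fibreCMSet f := by
  obtain ⟨e⟩ := nonempty_stalk_equiv_asFiber f (f.fiberι s z) z rfl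
  exact ⟨fun h => @CMChart.isCohenMacaulayLocalRing_of_ringEquiv _ _ _ _ e h,
    fun h => @CMChart.isCohenMacaulayLocalRing_of_ringEquiv _ _ _ _ e.symm h⟩

theorem preimage_fibreCMSet {X' S' : Scheme.{u}} {f : X ⟶ S} [LocallyOfFiniteType f] {f' : X' ⟶ S'}
    {g' : X' ⟶ X} {g : S' ⟶ S} (hc : IsPullback g' f' f g) :
    fibreCMSet f' = g' ⁻¹' fibreCMSet f := by
  ext x'
  haveI : IsLocallyNoetherian (f.fiber (g (f' x'))) := by
    haveI : LocallyOfFiniteType (f.fiberToSpecResidueField (g (f' x'))) :=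
      MorphismProperty.of_isPullback (P := @LocallyOfFiniteType) (ConsEngine.isPullback_fiber f (g (f' x'))) ‹_›
    exact LocallyOfFiniteType.isLocallyNoetherian (f.fiberToSpecResidueField (g (f' x')))
  exact (isCohenMacaulay_fiber_iff hc x' (Or.inr inferInstance)).symm

theorem fibreCMSet_of_isOpenImmersion (j : Y ⟶ X) [IsOpenImmersion j] (f : X ⟶ S) :
    fibreCMSet (j ≫ f) = j ⁻¹' fibreCMSet f := by
  ext w
  let s := (j ≫ f) w
  haveI : IsOpenImmersion (MoreMor.fiberMap j f s) :=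
    MorphismProperty.of_isPullback (P := @IsOpenImmersion) (ConsEngine.isPullback_fiberMap j f s) ‹_›
  let z := (j ≫ f).asFiber w
  have hp : f.fiberι s (MoreMor.fiberMap j f s z) = j w := by
    rw [← Scheme.Hom.comp_apply, ConsEngine.fiberMap_fiberι, Scheme.Hom.comp_apply, Scheme.Hom.fiberι_asFiber]
  show _ ↔ j w ∈ fibreCMSet f
  rw [← hp, ← fibreCM_iff_stalk]
  exact ⟨fun h => @CMChart.isCohenMacaulayLocalRing_of_ringEquiv _ _ _ _
      (asIso ((MoreMor.fiberMap j f s).stalkMap z)).commRingCatIsoToRingEquiv.symm h,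
    fun h => @CMChart.isCohenMacaulayLocalRing_of_ringEquiv _ _ _ _
      (asIso ((MoreMor.fiberMap j f s).stalkMap z)).commRingCatIsoToRingEquiv h⟩

theorem allCM_fiber_iff (f : X ⟶ S) (s : S) :
    AllCM (f.fiber s) ↔ ∀ x : X, f x = s → x ∈ fibreCMSet f := by
  refine ⟨fun h x hx => ?_, fun h z => (fibreCM_iff_stalk f z).mpr (h _ ?_)⟩
  · subst hx; exact h (f.asFiber x)
  · have : f.fiberι s z ∈ f ⁻¹' {s} := by rw [← f.range_fiberι]; exact ⟨z, rfl⟩
    exact this

theorem fibreCMSet_eq_of_flat (f : X ⟶ S) [Flat f] : fibreCMSet f = {x | MoreMor.IsCMAt f x} :=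
  Set.ext fun x => ⟨fun h => ⟨Flat.stalkMap f x, h⟩, fun h => h.2⟩

theorem isOpen_fibreCMSet (f : X ⟶ S) [Flat f] [LocallyOfFinitePresentation f] : IsOpen (fibreCMSet f) := by
  rw [fibreCMSet_eq_of_flat]; exact CMChart.isOpen_isCMAt f

theorem allCM_iff_of_field {T : Scheme.{u}} (g : Y ⟶ T) [IsIntegral T] [Subsingleton T] :
    AllCM Y ↔ ∀ y : Y, y ∈ fibreCMSet g := by
  haveI : ∀ t : T, IsIso (T.fromSpecResidueField t) := fun t => by
    haveI : Surjective (T.fromSpecResidueField t) := ⟨fun _ => ⟨Classical.arbitrary _, Subsingleton.elim _ _⟩⟩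
    haveI : IsClosedImmersion (T.fromSpecResidueField t) :=
      IsClosedImmersion.of_isPreimmersion _ (by rw [(Surjective.surj).range_eq]; exact isClosed_univ)
    exact isIso_of_isClosedImmersion_of_surjective _
  haveI : ∀ t : T, IsIso (g.fiberι t) := fun t =>
    inferInstanceAs (IsIso (pullback.fst g (T.fromSpecResidueField t)))
  refine ⟨fun h y => ?_, fun h y => ?_⟩
  · exact @CMChart.isCohenMacaulayLocalRing_of_ringEquiv _ _ _ _
      (asIso ((g.fiberι (g y)).stalkMap (g.asFiber y))).commRingCatIsoToRingEquiv (h _)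
  · haveI := h y
    have := CMChart.isCohenMacaulayLocalRing_of_ringEquiv
      (asIso ((g.fiberι (g y)).stalkMap (g.asFiber y))).commRingCatIsoToRingEquiv.symm this
    rwa [Scheme.Hom.fiberι_asFiber] at this

theorem isCons_allCM : ConsProp.IsCons.{u} (fun Y T g => AllCM Y) := by
  refine ⟨fun Y Y' T T' g g' e h _ _ _ _ _ _ hsq => ?_, fun X S u _ _ _ _ => ?_⟩
  · obtain ⟨h1, -, -⟩ := ConsEngine.surjective_flat_qc h
    haveI : Surjective e := MorphismProperty.of_isPullback (P := @Surjective) hsq.flip h1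
    show AllCM Y ↔ AllCM Y'
    rw [allCM_iff_of_field g, allCM_iff_of_field g', preimage_fibreCMSet hsq]
    refine ⟨fun hg y' => hg _, fun hg y => ?_⟩
    obtain ⟨y', rfl⟩ := e.surjective y
    exact hg y'
  obtain ⟨U, hU, hflat, -⟩ := S0414.result u
  haveI := LocallyOfFiniteType.isLocallyNoetherian u
  haveI := ConsEngine.lfp_of_lft u
  let flatU := u ∣_ U
  haveI : Flat flatU := hflat
  haveI : LocallyOfFinitePresentation flatU :=
    MorphismProperty.of_isPullback (P := @LocallyOfFinitePresentation) (isPullback_morphismRestrict u U).flip ‹_›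
  refine ConsEngine.interior_or_of_agree (C := (u '' ((u ⁻¹ᵁ U).ι '' (fibreCMSet flatU)ᶜ))ᶜ) ?_ U hU.nonempty
    fun s hs => ?_
  · haveI : IsLocallyNoetherian (u ⁻¹ᵁ U).toScheme := isLocallyNoetherian_of_isOpenImmersion (u ⁻¹ᵁ U).ι
    haveI : IsNoetherian X :=
      { toIsLocallyNoetherian := ‹_›, toCompactSpace := QuasiCompact.compactSpace_of_compactSpace u }
    exact ConsTop.isLocallyConstructible_compl (u.isLocallyConstructible_image
      ((u ⁻¹ᵁ U).ι.isLocallyConstructible_image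
        (ConsEngine.isLocallyConstructible_of_isClosed (isOpen_fibreCMSet flatU).isClosed_compl)))
  · show AllCM (u.fiber s) ↔ _
    rw [allCM_fiber_iff, preimage_fibreCMSet (isPullback_morphismRestrict u U).flip]
    constructor
    · rintro h ⟨_, ⟨w, hw, rfl⟩, hys⟩
      exact hw (h _ hys)
    · intro h x hx
      refine by_contra fun hn => h ⟨x, ⟨⟨x, show u x ∈ U by rw [hx]; exact hs⟩, ?_, rfl⟩, hx⟩
      exact hn

/-- The key dichotomy on an integral closed subscheme. -/
theorem fibreCMSet_dichotomy (f : X ⟶ S) [IsNoetherian S] [LocallyOfFiniteType f] [QuasiCompact f]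
    {Z : Scheme.{u}} (i : Z ⟶ X) [IsClosedImmersion i] [IsIntegral Z] :
    (i (genericPoint Z) ∈ fibreCMSet f → (interior (i ⁻¹' fibreCMSet f : Set Z)).Nonempty) ∧
      (i (genericPoint Z) ∈ (fibreCMSet f)ᶜ → (interior (i ⁻¹' (fibreCMSet f)ᶜ : Set Z)).Nonempty) := by
  let η := i (genericPoint Z)
  let C : TopologicalSpace.Closeds S := ⟨closure {f η}, isClosed_closure⟩
  let I : S.IdealSheafData := Scheme.IdealSheafData.vanishingIdeal C
  let T := I.subscheme
  let j := I.subschemeι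
  have hr : Set.range j = closure {f η} := by
    rw [Scheme.IdealSheafData.range_subschemeι]
    exact Scheme.IdealSheafData.coe_support_vanishingIdeal C
  obtain ⟨t, ht⟩ : f η ∈ Set.range j := hr ▸ subset_closure rfl
  have hgen : IsGenericPoint t (Set.univ : Set T) := by
    rw [isGenericPoint_iff_specializes]
    intro y
    refine ⟨fun _ => trivial, fun _ => ?_⟩
    rw [← j.isClosedEmbedding.isInducing.specializes_iff, ht, specializes_iff_mem_closure, ← hr]
    exact ⟨y, rfl⟩
  haveI : IrreducibleSpace T := { toNonempty := ⟨t⟩, isPreirreducible_univ := hgen.isIrreducible.2 }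
  haveI : AlgebraicGeometry.IsReduced T := DvrDom.isReduced_vanishingIdeal_subscheme C
  haveI : IsIntegral T := isIntegral_of_irreducibleSpace_of_isReduced _
  haveI : IsNoetherian T :=
    { toIsLocallyNoetherian := LocallyOfFiniteType.isLocallyNoetherian j
      toCompactSpace := QuasiCompact.compactSpace_of_compactSpace j }
  let fT := pullback.snd f j
  let q := pullback.fst f j
  haveI : LocallyOfFiniteType fT := MorphismProperty.pullback_snd (P := @LocallyOfFiniteType) _ _ inferInstance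
  haveI : QuasiCompact fT := MorphismProperty.pullback_snd (P := @QuasiCompact) _ _ inferInstance
  haveI : IsClosedImmersion q := MorphismProperty.pullback_fst (P := @IsClosedImmersion) _ _ inferInstance
  have hsq : IsPullback q fT f j := IsPullback.of_hasPullback f j
  obtain ⟨U, hU, hflat, -⟩ := S0414.result fT
  haveI := ConsEngine.lfp_of_lft fT
  haveI : Flat (fT ∣_ U) := hflat
  haveI : LocallyOfFinitePresentation (fT ∣_ U) :=
    MorphismProperty.of_isPullback (P := @LocallyOfFinitePresentation) (isPullback_morphismRestrict fT U).flip ‹_›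
  let A : Set ↥(pullback f j) := (fT ⁻¹ᵁ U).ι '' fibreCMSet (fT ∣_ U)
  have hA : IsOpen A := (fT ⁻¹ᵁ U).ι.isOpenEmbedding.isOpenMap _ (isOpen_fibreCMSet _)
  have hAE : ∀ v, v ∈ A ↔ (fT v ∈ U ∧ q v ∈ fibreCMSet f) := by
    intro v
    show v ∈ (fT ⁻¹ᵁ U).ι '' fibreCMSet (fT ∣_ U) ↔ _
    rw [preimage_fibreCMSet (isPullback_morphismRestrict fT U).flip, preimage_fibreCMSet hsq]
    exact ⟨fun ⟨w, hw, e⟩ => e ▸ ⟨w.2, hw⟩, fun ⟨h1, h2⟩ => ⟨⟨v, h1⟩, h2, rfl⟩⟩
  obtain ⟨O, hO, hOA⟩ := q.isEmbedding.isInducing.isOpen_iff.mp hA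
  obtain ⟨W, hW, hWU⟩ := q.isEmbedding.isInducing.isOpen_iff.mp (fT ⁻¹ᵁ U).2
  have hrq : Set.range q = f ⁻¹' Set.range j := Scheme.Pullback.range_fst f j
  have hspec : ∀ z : Z, η ⤳ i z := fun z =>
    ((genericPoint_spec Z).specializes (Set.mem_univ z)).map i.continuous
  have hlift : ∀ z : Z, ∃ v, q v = i z := fun z => by
    show i z ∈ Set.range q
    rw [hrq, Set.mem_preimage, hr]
    exact ((hspec z).map f.continuous).mem_closure
  obtain ⟨v, hv⟩ : η ∈ Set.range q := by rw [hrq]; exact ⟨t, ht⟩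
  have hvt : fT v = t := j.isEmbedding.injective (by
    rw [ht, ← hv, ← Scheme.Hom.comp_apply, ← hsq.w, Scheme.Hom.comp_apply])
  have hvU : fT v ∈ U := hvt ▸ (hgen.mem_open_set_iff U.2).mpr (by simpa using hU.nonempty)
  refine ⟨fun hη => ⟨genericPoint Z, mem_interior.mpr ⟨i ⁻¹' O, fun z hz => ?_, hO.preimage i.continuous, ?_⟩⟩,
    fun hη => ⟨genericPoint Z, mem_interior.mpr ⟨i ⁻¹' W, fun z hz hzE => ?_, hW.preimage i.continuous, ?_⟩⟩⟩
  · obtain ⟨w, hw⟩ := hlift z
    show i z ∈ fibreCMSet f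
    rw [← hw]
    exact ((hAE w).mp (by rw [← hOA]; exact show q w ∈ O by rw [hw]; exact hz)).2
  · show η ∈ O
    rw [← hv]
    exact (hOA.ge ((hAE v).mpr ⟨hvU, (congrArg (· ∈ fibreCMSet f) hv).mpr hη⟩) : _)
  · obtain ⟨w, hw⟩ := hlift z
    have hwA : w ∈ A := (hAE w).mpr ⟨hWU.le (show q w ∈ W by rw [hw]; exact hz), hw ▸ hzE⟩
    rw [← hOA] at hwA
    have hηO : η ∈ O := (hspec z).mem_open hO (hw ▸ hwA)
    exact hη ((congrArg (· ∈ fibreCMSet f) hv).mp ((hAE v).mp (hOA.le (show q v ∈ O by rw [hv]; exact hηO))).2)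
  · show η ∈ W
    rw [← hv]
    exact hWU.ge hvU

theorem isLocallyConstructible_fibreCMSet_noetherian (f : X ⟶ S) [IsNoetherian S] [LocallyOfFiniteType f]
    [QuasiCompact f] : Topology.IsLocallyConstructible (fibreCMSet f) := by
  haveI := LocallyOfFiniteType.isLocallyNoetherian f
  exact ConsEngine.isLocallyConstructible_of_indCons
    (ConsEngine.indCons_of_closed_integral _ fun Z i _ _ => (fibreCMSet_dichotomy f i).1)
    (ConsEngine.indCons_of_closed_integral _ fun Z i _ _ => (fibreCMSet_dichotomy f i).2)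

theorem isLocallyConstructible_fibreCMSet_spec {A : Type u} [CommRing A] (f : X ⟶ Spec (CommRingCat.of A))
    [LocallyOfFinitePresentation f] [QuasiCompact f] [QuasiSeparated f] :
    Topology.IsLocallyConstructible (fibreCMSet f) := by
  have : LocallyOfFinitePresentation (𝟙 X ≫ f) := by simpa
  have : QuasiCompact (𝟙 X ≫ f) := by simpa
  have : QuasiSeparated (𝟙 X ≫ f) := by simpa
  obtain ⟨S₀, σ, X₀, Y₀, f₀, g₀, qY, qX, _, _, _, _, _, _, _, hY, hX⟩ := ConsEngine.exists_model_mor (𝟙 X) f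
  rw [preimage_fibreCMSet hY]
  exact ConsEngine.isLocallyConstructible_preimage qY (isLocallyConstructible_fibreCMSet_noetherian g₀)

theorem isLocallyConstructible_fibreCMSet (f : X ⟶ S) [LocallyOfFinitePresentation f] :
    Topology.IsLocallyConstructible (fibreCMSet f) := by
  have hcov : ∀ x : X, ∃ (V : S.Opens) (W : X.Opens), IsAffineOpen V ∧ IsAffineOpen W ∧ W ≤ f ⁻¹ᵁ V ∧ x ∈ W := by
    intro x
    obtain ⟨V, hV, hxV, -⟩ := exists_isAffineOpen_mem_and_subset (U := (⊤ : S.Opens)) (x := f x) trivial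
    obtain ⟨W, hW, hxW, hWV⟩ := exists_isAffineOpen_mem_and_subset (U := f ⁻¹ᵁ V) (x := x) hxV
    exact ⟨V, W, hV, hW, hWV, hxW⟩
  choose V W hV hW hle hxW using hcov
  refine Topology.IsLocallyConstructible.of_isOpenCover (U := W)
    (TopologicalSpace.IsOpenCover.mk (by ext x; simp; exact ⟨x, hxW x⟩)) fun x => ?_
  let fV := f ∣_ V x
  haveI : LocallyOfFinitePresentation fV :=
    MorphismProperty.of_isPullback (P := @LocallyOfFinitePresentation) (isPullback_morphismRestrict f (V x)).flip ‹_›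
  let j := X.homOfLE (hle x)
  let φ := j ≫ fV ≫ (hV x).isoSpec.hom
  haveI : IsAffine (W x).toScheme := hW x
  have e : ((W x : Set X) ↓∩ fibreCMSet f) = fibreCMSet φ := by
    have h1 : IsPullback (𝟙 _) (fV ≫ (hV x).isoSpec.hom) fV (hV x).isoSpec.inv :=
      IsPullback.of_horiz_isIso ⟨by simp⟩
    rw [fibreCMSet_of_isOpenImmersion, preimage_fibreCMSet h1,
      preimage_fibreCMSet (isPullback_morphismRestrict f (V x)).flip]
    ext w
    show (W x).ι w ∈ fibreCMSet f ↔ (j ≫ 𝟙 _ ≫ (f ⁻¹ᵁ V x).ι) w ∈ fibreCMSet f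
    rw [Category.id_comp, Scheme.homOfLE_ι]
  rw [e]
  exact isLocallyConstructible_fibreCMSet_spec φ

end Groth.Agent.CMFlat
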