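import Groth.Agent.CMFlat.Constructible
import Groth.Agent.CMFlat.Localization
import Mathlib.CategoryTheory.Monoidal.Cartesian.Over
import Mathlib.CategoryTheory.Monoidal.Cartesian.Grp

/-!
# Group schemes over a field are Cohen–Macaulay
-/

set_option autoImplicit false
set_option linter.style.haveILetI false
set_option linter.unusedVariables false
universe u

open CategoryTheory CategoryTheory.Limits MonoidalCategory CartesianMonoidalCategory MonObj GrpObj
open AlgebraicGeometry

set_option backward.isDefEq.respectTransparency false

namespace Groth.Agent.CMFlat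

variable {S : Scheme.{u}} (G : Over S) [GrpObj G]

/-- `(g, h) ↦ (g, gh)` -/
noncomputable def shearLeft : G ⊗ G ≅ G ⊗ G where
  hom := lift (fst G G) (fst G G * snd G G)
  inv := lift (fst G G) ((fst G G)⁻¹ * snd G G)
  hom_inv_id := by
    apply CartesianMonoidalCategory.hom_ext
    · simp
    · simp only [Category.assoc, lift_snd, MonObj.comp_mul, GrpObj.comp_inv, lift_fst,
        Category.id_comp, inv_mul_cancel_left]
  inv_hom_id := by
    apply CartesianMonoidalCategory.hom_ext
    · simp
    · simp only [Category.assoc, lift_snd, MonObj.comp_mul, lift_fst, GrpObj.comp_inv,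
        Category.id_comp, mul_inv_cancel_left]

/-- `(g, h) ↦ (gh, h)` -/
noncomputable def shearRight : G ⊗ G ≅ G ⊗ G where
  hom := lift (fst G G * snd G G) (snd G G)
  inv := lift (fst G G * (snd G G)⁻¹) (snd G G)
  hom_inv_id := by
    apply CartesianMonoidalCategory.hom_ext
    · simp only [Category.assoc, lift_fst, MonObj.comp_mul, GrpObj.comp_inv, lift_snd,
        Category.id_comp, mul_inv_cancel_right]
    · simp
  inv_hom_id := by
    apply CartesianMonoidalCategory.hom_ext
    · simp only [Category.assoc, lift_fst, MonObj.comp_mul, lift_snd, GrpObj.comp_inv,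
        Category.id_comp, inv_mul_cancel_right]
    · simp

theorem isPullback_mul_left :
    IsPullback (pullback.fst G.hom G.hom) (fst G G * snd G G).left G.hom G.hom := by
  haveI : IsIso (shearLeft G).hom.left :=
    inferInstanceAs (IsIso ((Over.forget S).map (shearLeft G).hom))
  have h1 : (shearLeft G).hom.left ≫ pullback.fst G.hom G.hom = pullback.fst G.hom G.hom := by
    have := congrArg Over.Hom.left
      (show (shearLeft G).hom ≫ fst G G = fst G G from lift_fst _ _)
    rwa [Over.comp_left, Over.fst_left] at this
  have h2 : (shearLeft G).hom.left ≫ pullback.snd G.hom G.hom = (fst G G * snd G G).left := by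
    have := congrArg Over.Hom.left
      (show (shearLeft G).hom ≫ snd G G = fst G G * snd G G from lift_snd _ _)
    rwa [Over.comp_left, Over.snd_left] at this
  exact IsPullback.of_iso_pullback ⟨pullback.condition.trans (by
    rw [← Over.snd_left]; exact (Over.w (snd G G)).trans (Over.w (fst G G * snd G G)).symm)⟩
    (asIso (shearLeft G).hom.left) h1 h2

theorem isPullback_mul_right :
    IsPullback (pullback.snd G.hom G.hom) (fst G G * snd G G).left G.hom G.hom := by
  haveI : IsIso (shearRight G).hom.left :=
    inferInstanceAs (IsIso ((Over.forget S).map (shearRight G).hom))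
  have h1 : (shearRight G).hom.left ≫ pullback.fst G.hom G.hom = (fst G G * snd G G).left := by
    have := congrArg Over.Hom.left
      (show (shearRight G).hom ≫ fst G G = fst G G * snd G G from lift_fst _ _)
    rwa [Over.comp_left, Over.fst_left] at this
  have h2 : (shearRight G).hom.left ≫ pullback.snd G.hom G.hom = pullback.snd G.hom G.hom := by
    have := congrArg Over.Hom.left
      (show (shearRight G).hom ≫ snd G G = snd G G from lift_snd _ _)
    rwa [Over.comp_left, Over.snd_left] at this
  exact (IsPullback.of_iso_pullback (⟨(Over.w (fst G G * snd G G)).trans (by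
      rw [← Over.snd_left]; exact (Over.w (snd G G)).symm)⟩ :
      CommSq (fst G G * snd G G).left (pullback.snd G.hom G.hom) G.hom G.hom)
    (asIso (shearRight G).hom.left) h1 h2).flip

theorem isCohenMacaulay_stalk_group {k : Type u} [Field k] (G : Over (Spec (CommRingCat.of k))) [GrpObj G]
    [LocallyOfFiniteType G.hom] (x : G.left) :
    LocCoh.IsCohenMacaulayLocalRing (G.left.presheaf.stalk x) := by
  let g := G.hom
  haveI : Subsingleton (Spec (CommRingCat.of k)) := inferInstanceAs (Subsingleton (PrimeSpectrum k))
  haveI : LocallyOfFinitePresentation g := LocallyOfFinitePresentation.iff_locallyOfFiniteType.mpr inferInstance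
  haveI : IsLocallyNoetherian G.left := LocallyOfFiniteType.isLocallyNoetherian g
  haveI : Flat g := inferInstance
  let U := fibreCMSet g
  have hU : IsOpen U := isOpen_fibreCMSet g
  have hCM : ∀ {y : G.left}, y ∈ U → LocCoh.IsCohenMacaulayLocalRing (G.left.presheaf.stalk y) := fun {y} hy =>
    (CMChart.isCMAt_iff_stalk g y).mp ⟨Flat.stalkMap g y, hy⟩
  have hDense : Dense U := fun y => by
    haveI : IsIso (g.fiberι (g y)) := CMChart.isIso_fiberι_field g (g y)
    have h := CMChart.dense_isCMAt_fibre g (g y) (g.asFiber y)
    have h' := mem_closure_image (g.fiberι (g y)).continuous.continuousAt h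
    rw [Scheme.Hom.fiberι_asFiber] at h'
    exact closure_mono (show g.fiberι (g y) '' _ ⊆ U from by rintro _ ⟨w, hw, rfl⟩; exact hw.2) h'
  let m : pullback g g ⟶ G.left := (fst G G * snd G G).left
  have hL : IsPullback (pullback.fst g g) m g g := isPullback_mul_left G
  have hR : IsPullback (pullback.snd g g) m g g := isPullback_mul_right G
  haveI : Flat m := MorphismProperty.of_isPullback (P := @Flat) hL inferInstance
  haveI : LocallyOfFiniteType m := MorphismProperty.of_isPullback (P := @LocallyOfFiniteType) hL inferInstance
  haveI : IsLocallyNoetherian (pullback g g) := LocallyOfFiniteType.isLocallyNoetherian m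
  let F := m.fiber x
  let a := m.fiberι x ≫ pullback.fst g g
  let b := m.fiberι x ≫ pullback.snd g g
  haveI : UniversallyOpen a := MorphismProperty.of_isPullback (P := @UniversallyOpen)
    ((IsPullback.of_hasPullback m (G.left.fromSpecResidueField x)).paste_horiz hL).flip
    (inferInstance : UniversallyOpen (G.left.fromSpecResidueField x ≫ g))
  haveI : UniversallyOpen b := MorphismProperty.of_isPullback (P := @UniversallyOpen)
    ((IsPullback.of_hasPullback m (G.left.fromSpecResidueField x)).paste_horiz hR).flip
    (inferInstance : UniversallyOpen (G.left.fromSpecResidueField x ≫ g))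
  haveI : Nonempty F := by
    obtain ⟨q, hq1, hq2⟩ := Scheme.Pullback.exists_preimage_pullback (f := g) (g := g) x x rfl
    haveI : IsIso (shearLeft G).hom.left :=
      inferInstanceAs (IsIso ((Over.forget _).map (shearLeft G).hom))
    obtain ⟨p, hp⟩ : ∃ p : ↥(pullback g g), (shearLeft G).hom.left p = q := (shearLeft G).hom.left.surjective q
    have hpx : m p = x := by
      have h2 : (shearLeft G).hom.left ≫ pullback.snd g g = m := by
        have := congrArg Over.Hom.left
          (show (shearLeft G).hom ≫ snd G G = fst G G * snd G G from lift_snd _ _)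
        rwa [Over.comp_left, Over.snd_left] at this
      rw [← h2]
      show pullback.snd g g ((shearLeft G).hom.left p) = x
      rw [hp]; exact hq2
    show Nonempty (m.fiber x)
    exact hpx ▸ ⟨m.asFiber p⟩
  obtain ⟨z, hza, hzb⟩ : ∃ z : F, a z ∈ U ∧ b z ∈ U :=
    ((hDense.preimage a.isOpenMap).inter_open_nonempty (b ⁻¹' U) (hU.preimage b.continuous)
      ((hDense.preimage b.isOpenMap).nonempty)).imp fun z hz => ⟨hz.2, hz.1⟩
  let w := m.fiberι x z
  haveI : Flat (pullback.fst g g) := inferInstance
  have hw : LocCoh.IsCohenMacaulayLocalRing ((pullback g g).presheaf.stalk w) := by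
    refine (isCohenMacaulay_stalk_iff (pullback.fst g g) w (Flat.stalkMap _ _)).mpr ⟨hCM hza, ?_⟩
    show w ∈ fibreCMSet (pullback.fst g g)
    rw [preimage_fibreCMSet (IsPullback.of_hasPullback g g).flip]
    exact hzb
  have hmw : m w = x := by
    have : w ∈ m ⁻¹' {x} := by rw [← m.range_fiberι]; exact ⟨z, rfl⟩
    exact this
  have := ((isCohenMacaulay_stalk_iff m w (Flat.stalkMap _ _)).mp hw).1
  rwa [hmw] at this

end Groth.Agent.CMFlat
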